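import Groth.Agent.CartKit.Basic
import Groth.Prelude.Def_AlphaP

/-!
# The group scheme `α_p`: self-duality, Frobenius, endomorphisms
-/

open TensorProduct WithConv CartDual

universe u v

noncomputable section

namespace Groth.Agent.CartKit.Alpha

theorem nontriv (p : ℕ) [Fact p.Prime] (R : Type u) [CommRing R] [CharP R p] : Nontrivial R :=
  CharP.nontrivial_of_char_ne_one (Fact.out : p.Prime).ne_one

variable (p : ℕ) [Fact p.Prime] (R : Type u) [CommRing R] [CharP R p]

local notation "A" => AlphaP.A p R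
local notation "X" => AlphaP.x p R

theorem comul_x_pow (n : ℕ) :
    Coalgebra.comul (R := R) (X ^ n) =
      ∑ m ∈ Finset.range (n + 1), (n.choose m) • ((X ^ m) ⊗ₜ[R] (X ^ (n - m))) := by
  rw [Bialgebra.comul_pow, AlphaP.comul_x, Commute.add_pow (Commute.all _ _)]
  refine Finset.sum_congr rfl fun m _ => ?_
  rw [Algebra.TensorProduct.tmul_pow, Algebra.TensorProduct.tmul_pow, Algebra.TensorProduct.tmul_mul_tmul,
    one_pow, one_pow, mul_one, one_mul, ← nsmul_eq_mul']

theorem conv_apply_x_pow (y z : D R A) (n : ℕ) :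
    (y * z) (X ^ n) = ∑ m ∈ Finset.range (n + 1), (n.choose m) • (y (X ^ m) * z (X ^ (n - m))) := by
  rw [LinearMap.convMul_apply, comul_x_pow]
  simp only [map_sum, map_nsmul, TensorProduct.map_tmul, LinearMap.mul'_apply]

theorem one_apply_x_pow (n : ℕ) : (1 : D R A) (X ^ n) = if n = 0 then 1 else 0 := by
  rw [LinearMap.convOne_apply, Bialgebra.counit_pow, AlphaP.counit_x]
  rcases n with _ | n <;> simp

theorem dual_ext {y z : D R A} (h : ∀ n, n < p → y (X ^ n) = z (X ^ n)) : y = z := by
  haveI := nontriv p R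
  refine WithConv.ext ((AlphaP.basis p R).ext fun i => ?_)
  simpa [CartDual.coe_apply] using h i i.2

/-- The coordinate functional of `x ^ m`. -/
def coord (m : ℕ) (hm : m < p) : D R A :=
  haveI := nontriv p R
  toConv ((AlphaP.basis p R).coord ⟨m, hm⟩)

theorem coord_apply (m : ℕ) (hm : m < p) (n : ℕ) :
    coord p R m hm (X ^ n) = if n = m then 1 else 0 := by
  haveI := nontriv p R
  show (AlphaP.basis p R).coord ⟨m, hm⟩ (X ^ n) = _
  by_cases hn : n < p
  · rw [show X ^ n = AlphaP.basis p R ⟨n, hn⟩ from (AlphaP.basis_apply p R ⟨n, hn⟩).symm,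
      Module.Basis.coord_apply, Module.Basis.repr_self, Finsupp.single_apply]
    simp [Fin.ext_iff]
  · rw [AlphaP.x_pow_of_le p R (not_lt.mp hn), map_zero, if_neg (by omega)]

/-- The derivation at the origin. -/
def δ : D R A := coord p R 1 (Fact.out : p.Prime).one_lt

theorem δ_apply (n : ℕ) : δ p R (X ^ n) = if n = 1 then 1 else 0 := coord_apply p R 1 _ n

theorem δ_pow_apply (m n : ℕ) : (δ p R ^ m) (X ^ n) = if n = m then (m.factorial : R) else 0 := by
  induction m generalizing n with
  | zero => rw [pow_zero, one_apply_x_pow, Nat.factorial_zero, Nat.cast_one]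
  | succ m ih =>
    rw [pow_succ, conv_apply_x_pow]
    by_cases h : n = m + 1
    · subst h
      rw [Finset.sum_eq_single m, ih, δ_apply, if_pos rfl, if_pos rfl, if_pos (by omega), mul_one,
        Nat.choose_succ_self_right, nsmul_eq_mul, Nat.factorial_succ, Nat.cast_mul]
      · intro b _ hb; rw [ih, if_neg hb, zero_mul, smul_zero]
      · intro hb; exact absurd (Finset.mem_range.2 (by omega)) hb
    · rw [if_neg h]
      refine Finset.sum_eq_zero fun b hb => ?_
      rw [Finset.mem_range] at hb
      rw [ih, δ_apply]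
      split_ifs with h1 h2 <;> first | omega | simp

theorem δ_pow_p : δ p R ^ p = 0 := by
  refine dual_ext p R fun n hn => ?_
  rw [δ_pow_apply, if_neg (by omega)]
  rfl

/-- `x ↦ δ`. -/
def toDualHom : A →ₐ[R] D R A := AlphaP.lift p R (δ p R) (δ_pow_p p R)

theorem toDualHom_x : toDualHom p R X = δ p R := AlphaP.lift_x _ _

theorem counit_toDualHom :
    (Bialgebra.counitAlgHom R (D R A)).comp (toDualHom p R) = Bialgebra.counitAlgHom R A := by
  apply AlphaP.algHom_ext
  show Coalgebra.counit (toDualHom p R X) = Coalgebra.counit (R := R) X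
  rw [toDualHom_x, CartDual.coalgebra_counit_apply, AlphaP.counit_x, ← pow_zero X, δ_apply, if_neg zero_ne_one]

theorem comul_δ : Coalgebra.comul (R := R) (δ p R) = δ p R ⊗ₜ[R] 1 + 1 ⊗ₜ[R] δ p R := by
  haveI := nontriv p R
  apply (ev₂ R A).injective
  apply ((AlphaP.basis p R).tensorProduct (AlphaP.basis p R)).ext
  rintro ⟨⟨i, hi⟩, ⟨j, hj⟩⟩
  rw [Module.Basis.tensorProduct_apply, AlphaP.basis_apply, AlphaP.basis_apply, ev₂_coalgebra_comul_tmul,
    ← pow_add, δ_apply, map_add, LinearMap.add_apply, ev₂_tmul, ev₂_tmul, δ_apply, δ_apply,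
    one_apply_x_pow, one_apply_x_pow]
  show (if i + j = 1 then (1 : R) else 0) = _
  rcases i with _ | _ | i <;> rcases j with _ | _ | j <;> simp <;> omega

/-- The self-duality map of `α_p`. -/
def toDualB : A →ₐc[R] D R A :=
  BialgHom.ofAlgHom (toDualHom p R) (counit_toDualHom p R) (AlphaP.algHom_ext (by
    show Algebra.TensorProduct.map (toDualHom p R) (toDualHom p R) (Coalgebra.comul X) =
      Coalgebra.comul (toDualHom p R X)
    rw [AlphaP.comul_x, toDualHom_x, comul_δ, map_add, Algebra.TensorProduct.map_tmul,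
      Algebra.TensorProduct.map_tmul, toDualHom_x, map_one]))

theorem toDualB_apply_pow (n m : ℕ) : toDualB p R (X ^ n) (X ^ m) = if m = n then (n.factorial : R) else 0 := by
  show toDualHom p R (X ^ n) (X ^ m) = _
  rw [map_pow (toDualHom p R), toDualHom_x, δ_pow_apply]

theorem isUnit_factorial {n : ℕ} (hn : n < p) : IsUnit (n.factorial : R) :=
  (CharP.isUnit_natCast_iff Fact.out).2 ((Nat.Prime.dvd_factorial Fact.out).not.2 (not_le.2 hn))

theorem toDualB_apply (a : A) [Nontrivial R] (m : Fin p) :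
    toDualB p R a (X ^ (m : ℕ)) = (AlphaP.basis p R).repr a m * ((m : ℕ).factorial : R) := by
  have h : (LinearMap.applyₗ (X ^ (m : ℕ))) ∘ₗ (toDual R A).toLinearMap ∘ₗ (toDualB p R : A →ₗ[R] D R A) =
      (((m : ℕ).factorial : R)) • (AlphaP.basis p R).coord m := by
    refine (AlphaP.basis p R).ext fun i => ?_
    show toDualB p R (AlphaP.basis p R i) (X ^ (m : ℕ)) = ((m : ℕ).factorial : R) * (AlphaP.basis p R).repr (AlphaP.basis p R i) m
    rw [Module.Basis.repr_self, AlphaP.basis_apply, toDualB_apply_pow, Finsupp.single_apply]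
    by_cases h : i = m
    · simp [h]
    · rw [if_neg (fun h' => h (Fin.ext h'.symm)), if_neg h, mul_zero]
  have h2 := LinearMap.congr_fun h a
  rw [mul_comm]
  exact h2

theorem toDualB_bijective : Function.Bijective (toDualB p R) := by
  haveI := nontriv p R
  constructor
  · intro a b h
    refine (AlphaP.basis p R).repr.injective (Finsupp.ext fun m => ?_)
    refine (isUnit_factorial p R m.2).mul_left_injective ?_
    simp only [← toDualB_apply, h]
  · intro y
    refine ⟨∑ m : Fin p, (y (X ^ (m : ℕ)) * ((isUnit_factorial p R m.2).unit⁻¹ : Rˣ)) • AlphaP.basis p R m,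
      dual_ext p R fun n hn => ?_⟩
    have h := toDualB_apply p R (∑ m : Fin p, (y (X ^ (m : ℕ)) *
      ((isUnit_factorial p R m.2).unit⁻¹ : Rˣ)) • AlphaP.basis p R m) ⟨n, hn⟩
    rw [h, Module.Basis.repr_sum_self]
    simp [mul_assoc]

theorem exists_selfDual :
    ∃ e : D R A ≃ₐc[R] A, ∀ i : ℕ, i < p → (e.symm X) (X ^ i) = if i = 1 then 1 else 0 := by
  obtain ⟨e, he⟩ := exists_equiv_of_bijective _ (toDualB_bijective p R)
  refine ⟨e.symm, fun i _ => ?_⟩
  show e X (X ^ i) = _
  rw [he]
  show toDualHom p R X (X ^ i) = _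
  rw [toDualHom_x, δ_apply]

theorem trivFrob : TrivFrob p R A := by
  haveI : ExpChar R p := ExpChar.prime Fact.out
  haveI : ExpChar A p := ExpChar.prime Fact.out
  intro z
  obtain ⟨f, rfl⟩ := AlphaP.mk_surjective p R z
  have h : (frobenius A p).comp (AlphaP.mk p R).toRingHom =
      (algebraMap R A).comp ((frobenius R p).comp ((Bialgebra.counitAlgHom R A).comp (AlphaP.mk p R)).toRingHom) := by
    refine Polynomial.ringHom_ext (fun r => ?_) ?_
    · show AlphaP.mk p R (Polynomial.C r) ^ p =
        algebraMap R A ((Bialgebra.counitAlgHom R A (AlphaP.mk p R (Polynomial.C r))) ^ p)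
      rw [← Polynomial.algebraMap_eq, AlgHom.commutes, AlgHom.commutes, Algebra.algebraMap_self,
        RingHom.id_apply, map_pow]
    · simp [frobenius_def, AlphaP.mk_X, (Fact.out : p.Prime).ne_zero]
  exact RingHom.congr_fun h f

theorem exists_smul_of_primitive {z : A} (hz : Coalgebra.comul (R := R) z = z ⊗ₜ[R] 1 + 1 ⊗ₜ[R] z)
    (hε : Coalgebra.counit (R := R) z = 0) : ∃ c : R, z = c • X := by
  haveI := nontriv p R
  refine ⟨δ p R z, (AlphaP.basis p R).repr.injective (Finsupp.ext fun i => ?_)⟩
  obtain ⟨n, hn⟩ := i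
  have hp1 : 1 < p := (Fact.out : p.Prime).one_lt
  have hX : X = AlphaP.basis p R ⟨1, hp1⟩ := by simp
  have hrhs : (AlphaP.basis p R).repr (δ p R z • X) ⟨n, hn⟩ = if n = 1 then δ p R z else 0 := by
    rw [map_smul, hX, Module.Basis.repr_self, Finsupp.smul_apply, Finsupp.single_apply]
    simp [Fin.ext_iff, eq_comm]
  rw [hrhs]
  rcases n with _ | _ | n
  · rw [if_neg zero_ne_one]
    have h1 : coord p R 0 hn = 1 := dual_ext p R fun m _ => by rw [coord_apply, one_apply_x_pow]
    show coord p R 0 hn z = 0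
    rw [h1, LinearMap.convOne_apply, hε]
    simp
  · rfl
  · rw [if_neg (by omega)]
    have hn' : n + 1 < p := by omega
    have hz0 : (δ p R * coord p R (n + 1) hn') z = 0 := by
      rw [LinearMap.convMul_apply, hz]
      have h0 : δ p R (1 : A) = 0 := by rw [← pow_zero X, δ_apply, if_neg zero_ne_one]
      have h0' : coord p R (n + 1) hn' (1 : A) = 0 := by rw [← pow_zero X, coord_apply, if_neg (by omega)]
      rw [CartDual.coe_apply] at h0 h0'
      simp [h0, h0']
    have hprod : δ p R * coord p R (n + 1) hn' = ((n + 1 + 1 : ℕ) : R) • coord p R (n + 1 + 1) hn := by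
      refine dual_ext p R fun m hm => ?_
      rw [conv_apply_x_pow, CartDual.coe_apply, WithConv.ofConv_smul, LinearMap.smul_apply, ← CartDual.coe_apply,
        coord_apply, smul_eq_mul]
      by_cases h : m = n + 1 + 1
      · subst h
        rw [Finset.sum_eq_single 1, δ_apply, if_pos rfl, coord_apply, if_pos (by omega), if_pos rfl,
          Nat.choose_one_right, mul_one, nsmul_one, mul_one]
        · intro b _ hb; rw [δ_apply, if_neg hb, zero_mul, smul_zero]
        · intro hb; exact absurd (Finset.mem_range.2 (by omega)) hb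
      · rw [if_neg h, mul_zero]
        refine Finset.sum_eq_zero fun b hb => ?_
        rw [Finset.mem_range] at hb
        rw [δ_apply, coord_apply]
        split_ifs <;> first | omega | simp
    rw [hprod, CartDual.coe_apply, WithConv.ofConv_smul, LinearMap.smul_apply, smul_eq_mul] at hz0
    refine ((CharP.isUnit_natCast_iff (p := p) Fact.out).2 ?_).mul_right_eq_zero.1 hz0
    exact Nat.not_dvd_of_pos_of_lt (by omega) hn

theorem endo :
    (∀ f : A →ₐc[R] A, ∃! c : R, f X = c • X) ∧ (∀ c : R, ∃ f : A →ₐc[R] A, f X = c • X) := by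
  haveI := nontriv p R
  refine ⟨fun f => ?_, fun c => ?_⟩
  · have h1 : Coalgebra.comul (R := R) (f X) = f X ⊗ₜ[R] 1 + 1 ⊗ₜ[R] f X := by
      rw [← CoalgHomClass.map_comp_comul_apply f X, AlphaP.comul_x, map_add, TensorProduct.map_tmul,
        TensorProduct.map_tmul]
      simp [map_one f]
    obtain ⟨c, hc⟩ := exists_smul_of_primitive p R h1 (by rw [CoalgHomClass.counit_comp_apply f X, AlphaP.counit_x])
    refine ⟨c, hc, fun d hd => ?_⟩
    have h2 := congrArg (fun z => δ p R z) (hd.symm.trans hc)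
    have hδ : δ p R X = 1 := by rw [← pow_one X, δ_apply, if_pos rfl]
    simp only [CartDual.coe_apply, map_smul] at h2
    rw [← CartDual.coe_apply, hδ, smul_eq_mul, smul_eq_mul, mul_one, mul_one] at h2
    exact h2
  · have hc : (c • X) ^ p = 0 := by rw [smul_pow, AlphaP.x_pow, smul_zero]
    refine ⟨BialgHom.ofAlgHom (AlphaP.lift p R (c • X) hc)
      (AlphaP.algHom_ext ?_) (AlphaP.algHom_ext ?_), AlphaP.lift_x (c • X) hc⟩
    · show Coalgebra.counit (R := R) (AlphaP.lift p R (c • X) hc X) = Coalgebra.counit (R := R) X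
      rw [AlphaP.lift_x, map_smul, AlphaP.counit_x, smul_zero]
    · show Algebra.TensorProduct.map _ _ (Coalgebra.comul X) = Coalgebra.comul (AlphaP.lift p R (c • X) hc X)
      rw [AlphaP.lift_x, map_smul, AlphaP.comul_x, map_add, Algebra.TensorProduct.map_tmul,
        Algebra.TensorProduct.map_tmul, AlphaP.lift_x, map_one, smul_add, TensorProduct.smul_tmul',
        TensorProduct.smul_tmul' c (1 : A), ← TensorProduct.smul_tmul c (1 : A) X]

end Groth.Agent.CartKit.Alpha
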