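import Groth.Prelude.Def_CartDual2
import Groth.Prelude.Def_Versch
import Groth.Agent.FinHopf.Cocomm
import Mathlib

/-!
# Basic kit for Cartier duals of finite projective bialgebras
-/

open TensorProduct WithConv CartDual

universe u v w

namespace Groth.Agent.CartKit

variable {R : Type u} [CommRing R]

theorem exists_equiv_of_bijective {A : Type v} [Semiring A] [Algebra R A] [CoalgebraStruct R A] {B : Type w}
    [Semiring B] [Algebra R B] [CoalgebraStruct R B] (f : A →ₐc[R] B) (hf : Function.Bijective f) :
    ∃ e : A ≃ₐc[R] B, ∀ a, e a = f a :=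
  ⟨{ f with
      invFun := (Equiv.ofBijective f hf).symm
      left_inv := (Equiv.ofBijective f hf).symm_apply_apply
      right_inv := (Equiv.ofBijective f hf).apply_symm_apply }, fun _ => rfl⟩

theorem eval_bijective (A : Type v) [Ring A] [Bialgebra R A] [Module.Finite R A] [Module.Projective R A] :
    Function.Bijective (CartDual.eval R A) := by
  have h : ⇑(CartDual.eval R A) =
      ⇑((toDual R (D R A)).symm.toLinearMap ∘ₗ (toDual R A).toLinearMap.dualMap) ∘ ⇑(Module.Dual.eval R A) := rfl
  rw [h]
  refine Function.Bijective.comp ?_ (Module.bijective_dual_eval R A)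
  rw [LinearMap.coe_comp]
  exact (toDual R (D R A)).symm.bijective.comp (toDual R A).dualMap.bijective

variable {A : Type v} [Ring A] [Bialgebra R A]

theorem conv_apply_groupLike (x y : D R A) {g : A} (hg : Coalgebra.comul (R := R) g = g ⊗ₜ[R] g) :
    (x * y) g = x g * y g := by
  rw [LinearMap.convMul_apply, hg]; rfl

theorem pow_apply_groupLike (x : D R A) {g : A} (hg : Coalgebra.comul (R := R) g = g ⊗ₜ[R] g)
    (hε : Coalgebra.counit (R := R) g = 1) (n : ℕ) : (x ^ n) g = (x g) ^ n := by
  induction n with
  | zero => simp [hε]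
  | succ n ih => rw [pow_succ, pow_succ, conv_apply_groupLike _ _ hg, ih]

theorem algebraMap_apply (r : R) (a : A) :
    algebraMap R (D R A) r a = r * Coalgebra.counit (R := R) a := by
  rw [Algebra.algebraMap_eq_smul_one, CartDual.coe_apply, WithConv.ofConv_smul, LinearMap.smul_apply,
    smul_eq_mul, ← CartDual.coe_apply, LinearMap.convOne_apply, Algebra.algebraMap_self, RingHom.id_apply]

/-- The `p`-th power map of `B` factors through the counit. -/
def TrivFrob (p : ℕ) (R : Type u) [CommRing R] (B : Type v) [Semiring B] [Bialgebra R B] : Prop :=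
  ∀ z : B, z ^ p = algebraMap R B ((Coalgebra.counit (R := R) z) ^ p)

theorem TrivFrob.of_equiv {p : ℕ} {B : Type v} [Semiring B] [Bialgebra R B] {C : Type w} [Semiring C]
    [Bialgebra R C] (e : B ≃ₐc[R] C) (h : TrivFrob p R B) : TrivFrob p R C := fun z => by
  obtain ⟨y, rfl⟩ := e.toEquiv.surjective z
  show e y ^ p = _
  rw [← map_pow, h y, AlgHomClass.commutes e]
  congr 2
  exact (CoalgHomClass.counit_comp_apply e y).symm

theorem TrivFrob.eq_zero_of_isIdempotentElem {p : ℕ} {B : Type v} [Semiring B] [Bialgebra R B]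
    (h : TrivFrob p R B) (hp : p ≠ 0) {z : B} (hz : IsIdempotentElem z)
    (hz0 : Coalgebra.counit (R := R) z = 0) : z = 0 := by
  obtain ⟨n, rfl⟩ := Nat.exists_eq_succ_of_ne_zero hp
  have h1 := h z
  rw [hz.pow_succ_eq n, hz0, zero_pow (Nat.succ_ne_zero n), map_zero] at h1
  exact h1

theorem verschiebung_eq_const (p : ℕ) [Fact p.Prime] (R : Type u) [CommRing R] [CharP R p]
    (A : Type v) [CommRing A] [HopfAlgebra R A] [Coalgebra.IsCocomm R A]
    [Module.Finite R A] [Module.Projective R A] (h : TrivFrob p R (D R A))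
    (v : A →+* FrobAlg.BaseChange p R A) (hv : Versch.IsVerschiebung p R A v) :
    v = ((Algebra.TensorProduct.includeRight (R := R) (A := A) (B := FrobAlg.Twist p R)).toRingHom.comp
          (FrobAlg.toTwist p R).toRingHom).comp (Bialgebra.counitAlgHom R A).toRingHom := by
  refine RingHom.ext fun a => Versch.evTw_injective p R A fun x => ?_
  rw [(Versch.isVerschiebung_iff p R A v).1 hv a x, h x, algebraMap_apply]
  show _ = Versch.evTw p R A x ((1 : A) ⊗ₜ[R] FrobAlg.toTwist p R (Coalgebra.counit (R := R) a))
  rw [Versch.evTw_tmul', map_mul]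
  rfl

end Groth.Agent.CartKit
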