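import Mathlib.RingTheory.HopfAlgebra.Convolution
import Mathlib.RingTheory.Ideal.GoingUp
import Mathlib.RingTheory.TensorProduct.Finite
import Mathlib.RingTheory.LocalRing.MaximalIdeal.Basic
import Mathlib.RingTheory.Jacobson.Ideal
import Groth.Prelude.Def_SGA3

/-!
# Idempotents of a tensor product with a connected finite algebra
-/

open TensorProduct WithConv

universe u v w

namespace Groth.Agent.CartKit

variable {R : Type u} [CommRing R]

theorem idem_tensor_eq_one [Nontrivial R] {A : Type v} {B : Type w} [CommRing A] [Algebra R A]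
    [Module.Finite R A] [CommRing B] [Algebra R B] [IsLocalRing B] (ε : B →ₐ[R] R) {f : B ⊗[R] A}
    (hf : IsIdempotentElem f)
    (h : Algebra.TensorProduct.lid R A (Algebra.TensorProduct.map ε (AlgHom.id R A) f) = 1) : f = 1 := by
  have hdiff : ∀ z : B ⊗[R] A,
      z - (1 : B) ⊗ₜ[R] Algebra.TensorProduct.lid R A (Algebra.TensorProduct.map ε (AlgHom.id R A) z) ∈
        (IsLocalRing.maximalIdeal B).map (algebraMap B (B ⊗[R] A)) := by
    intro z
    induction z using TensorProduct.induction_on with
    | zero => simp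
    | add x y hx hy =>
      simp only [map_add, TensorProduct.tmul_add]
      rw [add_sub_add_comm]
      exact add_mem hx hy
    | tmul b a =>
      have e : b ⊗ₜ[R] a - (1 : B) ⊗ₜ[R] Algebra.TensorProduct.lid R A
          (Algebra.TensorProduct.map ε (AlgHom.id R A) (b ⊗ₜ[R] a)) =
          algebraMap B (B ⊗[R] A) (b - algebraMap R B (ε b)) * ((1 : B) ⊗ₜ[R] a) := by
        rw [map_sub, sub_mul, Algebra.TensorProduct.map_tmul, Algebra.TensorProduct.lid_tmul, AlgHom.id_apply,
          TensorProduct.tmul_smul, Algebra.TensorProduct.algebraMap_apply, Algebra.TensorProduct.algebraMap_apply,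
          Algebra.algebraMap_self, RingHom.id_apply, RingHom.id_apply, Algebra.TensorProduct.tmul_mul_tmul,
          Algebra.TensorProduct.tmul_mul_tmul, one_mul, mul_one, mul_one, TensorProduct.smul_tmul',
          Algebra.smul_def, mul_one]
      rw [e]
      refine Ideal.mul_mem_right _ _ (Ideal.mem_map_of_mem _ ?_)
      refine IsLocalRing.le_maximalIdeal (RingHom.ker_ne_top ε) ?_
      rw [RingHom.mem_ker, map_sub, AlgHom.commutes, Algebra.algebraMap_self, RingHom.id_apply, sub_self]
  have h1 := hdiff f
  rw [h, ← Algebra.TensorProduct.one_def] at h1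
  have hJ : (IsLocalRing.maximalIdeal B).map (algebraMap B (B ⊗[R] A)) ≤ Ideal.jacobson ⊥ := by
    refine Ideal.map_le_iff_le_comap.2 fun b hb => ?_
    simp only [Ideal.mem_comap, Ideal.jacobson, Submodule.mem_sInf, Set.mem_ofPred_eq, and_imp]
    intro M _ hM
    have hM' := Ideal.isMaximal_comap_of_isIntegral_of_isMaximal (R := B) M (hI := hM)
    rw [← IsLocalRing.eq_maximalIdeal hM'] at hb
    exact hb
  have hu : IsUnit ((f - 1) * 1 + 1) := Ideal.mem_jacobson_bot.1 (hJ h1) 1
  rw [mul_one, sub_add_cancel] at hu
  exact (IsUnit.mul_eq_left hu).1 hf.eq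

theorem toConv_conv3 {A : Type u} [CommRing A] [HopfAlgebra R A] {C : Type u} [CommRing C] [Algebra R C]
    (f g h : A →ₐ[R] C) : toConv (Dyn.conv3 R A f g h) = toConv f * toConv g * toConv h := by
  apply WithConv.ofConv_injective
  refine AlgHom.ext fun a => ?_
  show Dyn.conv3 R A f g h a = (toConv f * toConv g * toConv h) a
  rw [AlgHom.convMul_apply]
  simp only [Dyn.conv3, AlgHom.comp_apply, Bialgebra.comulAlgHom_apply, ofConv_toConv]
  induction Coalgebra.comul (R := R) a using TensorProduct.induction_on with
  | zero => simp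
  | add x y hx hy => simp only [map_add, hx, hy]
  | tmul x y =>
    simp only [Algebra.TensorProduct.map_tmul, Algebra.TensorProduct.lmul'_apply_tmul, AlgHom.comp_apply,
      Bialgebra.comulAlgHom_apply, AlgHom.id_apply, Algebra.TensorProduct.lift_tmul]
    congr 1

end Groth.Agent.CartKit
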