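import Groth.Agent.CartKit.Basic

/-!
# Group-like and primitive elements as points and tangent vectors of the dual
-/

open TensorProduct WithConv CartDual

universe u v

namespace Groth.Agent.CartKit

variable {B : Type u} [CommRing B] {E : Type v} [CommRing E] [Bialgebra B E]
  [Module.Finite B E] [Module.Projective B E]

theorem exists_eval_eq (f : D B E →ₗ[B] B) : ∃! x : E, ∀ φ : D B E, f φ = φ x := by
  obtain ⟨x, hx⟩ := (Module.bijective_dual_eval B E).2 (f ∘ₗ (toDual B E).symm.toLinearMap)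
  have h : ∀ φ : D B E, f φ = φ x := fun φ => by
    have := (LinearMap.congr_fun hx φ.ofConv).symm
    simpa using this
  refine ⟨x, h, fun y hy => (Module.bijective_dual_eval B E).1 ?_⟩
  rw [hx]
  refine LinearMap.ext fun φ => ?_
  simpa using (hy (toConv φ)).symm

theorem ev₂_eq_conv (φ ψ : D B E) (z : E) :
    ev₂ B E (φ ⊗ₜ ψ) (Coalgebra.comul (R := B) z) = (φ * ψ) z := by
  rw [LinearMap.convMul_apply]
  generalize Coalgebra.comul (R := B) z = t
  induction t using TensorProduct.induction_on with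
  | zero => simp
  | tmul b c => simp [CartDual.coe_apply]
  | add t t' ht ht' => simp [map_add, ht, ht']

theorem comul_eq_of_forall {x : E} {z : E ⊗[B] E}
    (h : ∀ φ ψ : D B E, (φ * ψ) x = ev₂ B E (φ ⊗ₜ ψ) z) : Coalgebra.comul (R := B) x = z :=
  FinHopf.Cocomm.eq_of_forall_ev₂ fun φ ψ => by rw [ev₂_eq_conv, h]

theorem one_apply' (x : E) : (1 : D B E) x = Coalgebra.counit (R := B) x := by
  rw [LinearMap.convOne_apply]; simp

theorem existsUnique_groupLike (f : D B E →ₐ[B] B) :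
    ∃! x : E, IsGroupLikeElem B x ∧ ∀ φ : E →ₗ[B] B, f (toConv φ) = φ x := by
  obtain ⟨x, hx, hu⟩ := exists_eval_eq f.toLinearMap
  have hx' : ∀ φ : D B E, f φ = φ x := hx
  refine ⟨x, ⟨⟨?_, ?_⟩, fun φ => hx' (toConv φ)⟩, fun y hy => hu y fun φ => hy.2 φ.ofConv⟩
  · rw [← one_apply', ← hx', map_one]
  · refine comul_eq_of_forall fun φ ψ => ?_
    rw [ev₂_tmul, ← hx' φ, ← hx' ψ, ← hx' (φ * ψ), map_mul]

theorem existsUnique_primitive (f : D B E →ₗ[B] B)
    (hf : ∀ φ ψ : D B E, f (φ * ψ) = f φ * ψ 1 + φ 1 * f ψ) :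
    ∃! x : E, Coalgebra.comul x = x ⊗ₜ[B] (1 : E) + (1 : E) ⊗ₜ[B] x ∧ ∀ φ : D B E, f φ = φ x := by
  obtain ⟨x, hx, hu⟩ := exists_eval_eq f
  refine ⟨x, ⟨comul_eq_of_forall fun φ ψ => ?_, hx⟩, fun y hy => hu y hy.2⟩
  rw [map_add, ev₂_tmul, ev₂_tmul, ← hx φ, ← hx ψ, ← hx (φ * ψ), hf]

end Groth.Agent.CartKit
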