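import Groth.Agent.CartKit.FibreFlat
import Groth.Agent.CartKit.Points
import Groth.Agent.FinHopf.Deligne

/-!
# Cartier duality is exact
-/

open TensorProduct WithConv CartDual

universe u

noncomputable section

namespace Groth.Agent.CartKit

/-- A finite faithfully flat algebra has a linear retraction. -/
theorem exists_retraction_of_faithfullyFlat (C A : Type u) [CommRing C] [CommRing A] [Algebra C A]
    [Module.Finite C A] [Module.Projective C A] [Module.FaithfullyFlat C A] :
    ∃ r : A →ₗ[C] C, r 1 = 1 := by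
  let T : Ideal C := LinearMap.range (LinearMap.applyₗ (1 : A) : (A →ₗ[C] C) →ₗ[C] C)
  suffices T = ⊤ by
    have h1 : (1 : C) ∈ T := by rw [this]; trivial
    exact h1
  by_contra hT
  obtain ⟨m, hm, hTm⟩ := Ideal.exists_le_maximal T hT
  have htop : m • (⊤ : Submodule C A) = ⊤ := by
    rw [eq_top_iff]
    obtain ⟨n, f, g, -, -, hfg⟩ := Module.Finite.exists_comp_eq_id_of_projective C A
    have h1 : (1 : A) ∈ m • (⊤ : Submodule C A) := by
      rw [← LinearMap.id_apply (R := C) (1 : A), ← hfg, LinearMap.comp_apply, pi_eq_sum_univ' (g 1), map_sum]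
      refine Submodule.sum_mem _ fun i _ => ?_
      rw [map_smul]
      exact Submodule.smul_mem_smul (hTm ⟨LinearMap.proj i ∘ₗ g, rfl⟩) trivial
    intro a _
    rw [Ideal.smul_top_eq_map] at h1 ⊢
    have : a * 1 ∈ m.map (algebraMap C A) := Ideal.mul_mem_left _ a h1
    rwa [mul_one] at this
  exact Module.FaithfullyFlat.submodule_ne_top hm htop

variable {R : Type u} [CommRing R]

/-- Separation on a mixed tensor product. -/
theorem ext_of_dual {M N : Type u} [AddCommGroup M] [Module R M] [AddCommGroup N] [Module R N]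
    [Module.Finite R M] [Module.Projective R M] [Module.Finite R N] [Module.Projective R N]
    {z z' : M ⊗[R] N}
    (h : ∀ (x : Module.Dual R M) (y : Module.Dual R N),
      dualTensorEquiv R M N (x ⊗ₜ y) z = dualTensorEquiv R M N (x ⊗ₜ y) z') : z = z' := by
  have h' : ∀ φ : Module.Dual R (M ⊗[R] N), φ z = φ z' := by
    intro φ
    obtain ⟨w, rfl⟩ := (dualTensorEquiv R M N).surjective φ
    induction w using TensorProduct.induction_on with
    | zero => simp
    | tmul x y => exact h x y
    | add w w' hw hw' => simp [map_add, hw, hw']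
  rw [← sub_eq_zero]
  exact (Module.forall_dual_apply_eq_zero_iff R _).mp fun φ => by rw [map_sub, h', sub_self]

/-- A flat algebra over an augmented algebra has a flat quotient by the augmentation ideal. -/
theorem flat_quotient_map {S N : Type u} [CommRing S] [CommRing N] [Algebra R S] [Algebra S N] [Algebra R N]
    [IsScalarTower R S N] [Module.Flat S N] (ε : S →ₐ[R] R) :
    Module.Flat R (N ⧸ (RingHom.ker ε).map (algebraMap S N)) := by
  set I := RingHom.ker ε
  have hε : Function.Surjective ε := fun z => ⟨algebraMap R S z, ε.commutes z⟩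
  haveI : Module.Flat R (S ⧸ I) :=
    Module.Flat.of_linearEquiv (M := R) (Ideal.quotientKerAlgEquivOfSurjective hε).toLinearEquiv
  haveI : Module.Flat R ((S ⧸ I) ⊗[S] N) := Module.Flat.trans R (S ⧸ I) ((S ⧸ I) ⊗[S] N)
  refine Module.Flat.of_linearEquiv (M := (S ⧸ I) ⊗[S] N) ?_
  exact (((TensorProduct.quotTensorEquivQuotSMul N I) ≪≫ₗ
    (Submodule.quotEquivOfEq _ _ (Ideal.smul_top_eq_map I)) ≪≫ₗ
    (Submodule.Quotient.restrictScalarsEquiv S (I.map (algebraMap S N)))).restrictScalars R).symm

section Coinv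

variable {A A' A'' : Type u} [CommRing A] [HopfAlgebra R A] [CommRing A'] [HopfAlgebra R A']
  [CommRing A''] [HopfAlgebra R A'']

/-- Coinvariants of `A` are in `A''`. -/
theorem mem_range_of_coinvariant (f : A'' →ₐc[R] A) (g : A →ₐc[R] A') (hg : Function.Surjective g)
    (hker : RingHom.ker (g : A →ₐ[R] A') =
      Ideal.map (f : A'' →ₐ[R] A) (RingHom.ker (Bialgebra.counitAlgHom R A'')))
    (r : A → A'') (hr : letI := (f : A'' →ₐ[R] A).toRingHom.toAlgebra; ∃ r' : A →ₗ[A''] A'', r' 1 = 1 ∧ ⇑r' = r)
    (a : A) (ha : TensorProduct.map LinearMap.id (g : A →ₗ[R] A') (Coalgebra.comul (R := R) a) = a ⊗ₜ[R] 1) :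
    f (r a) = a := by
  letI := (f : A'' →ₐ[R] A).toRingHom.toAlgebra
  haveI : IsScalarTower R A'' A := IsScalarTower.of_algebraMap_eq fun x => ((f : A'' →ₐ[R] A).commutes x).symm
  obtain ⟨r', hr1, rfl⟩ := hr
  let iL : A →ₐ[R] A ⊗[A''] A :=
    (Algebra.TensorProduct.includeLeft : A →ₐ[A''] A ⊗[A''] A).restrictScalars R
  let iR : A →ₐ[R] A ⊗[A''] A :=
    (Algebra.TensorProduct.includeRight : A →ₐ[A''] A ⊗[A''] A).restrictScalars R
  let u : WithConv (A →ₐ[R] A ⊗[A''] A) :=
    toConv (iL.comp (HopfAlgebra.antipodeAlgHom R A)) * toConv iR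
  have hfg : ∀ (x : A''), u.ofConv (f x) = algebraMap R (A ⊗[A''] A) (Coalgebra.counit x) := by
    intro x
    have hh : iL.comp (f : A'' →ₐ[R] A) = iR.comp (f : A'' →ₐ[R] A) := by
      refine AlgHom.ext fun y => ?_
      show (algebraMap A'' A y) ⊗ₜ[A''] (1 : A) = (1 : A) ⊗ₜ[A''] (algebraMap A'' A y)
      rw [Algebra.algebraMap_eq_smul_one, TensorProduct.smul_tmul]
    have h2 : (toConv (iL.comp (HopfAlgebra.antipodeAlgHom R A)) : WithConv (A →ₐ[R] A ⊗[A''] A)) *
        toConv iL = 1 := by
      have := congrArg (FinHopf.Deligne.postHom iL) (AlgHom.antipode_id_cancel (R := R) (A := A))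
      rwa [map_mul, map_one] at this
    have h3 : u.ofConv (f x) = ((toConv (iL.comp (HopfAlgebra.antipodeAlgHom R A)) : WithConv (A →ₐ[R] A ⊗[A''] A)) *
        toConv iL).ofConv (f x) := by
      show ((toConv (iL.comp (HopfAlgebra.antipodeAlgHom R A)) * toConv iR :
        WithConv (A →ₐ[R] A ⊗[A''] A))).ofConv (f x) = _
      rw [AlgHom.convMul_apply, AlgHom.convMul_apply, ← CoalgHomClass.map_comp_comul_apply f x]
      generalize Coalgebra.comul (R := R) x = t
      induction t using TensorProduct.induction_on with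
      | zero => simp
      | add t t' ht ht' => simp only [map_add, ht, ht']
      | tmul b c =>
        simp only [TensorProduct.map_tmul, Algebra.TensorProduct.map_tmul, Algebra.TensorProduct.lmul'_apply_tmul,
          WithConv.ofConv_toConv]
        show _ * iR ((f : A'' →ₐ[R] A) c) = _ * iL ((f : A'' →ₐ[R] A) c)
        rw [← AlgHom.comp_apply, ← hh, AlgHom.comp_apply]
    rw [h3, h2, AlgHom.convOne_apply, CoalgHomClass.counit_comp_apply f x]
  have hle : RingHom.ker (g : A →ₐ[R] A') ≤ RingHom.ker u.ofConv := by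
    rw [hker, Ideal.map_le_iff_le_comap]
    intro x hx
    rw [Ideal.mem_comap, RingHom.mem_ker]
    show u.ofConv (f x) = 0
    rw [RingHom.mem_ker, Bialgebra.counitAlgHom_apply] at hx
    rw [hfg, hx, map_zero]
  let ψ : A' →ₐ[R] A ⊗[A''] A := AlgHom.liftOfSurjective (g : A →ₐ[R] A') hg u.ofConv hle
  have hψ : ∀ b, ψ (g b) = u.ofConv b := fun b =>
    DFunLike.congr_fun (AlgHom.liftOfSurjective_comp (g : A →ₐ[R] A') hg u.ofConv hle) b
  let lam : A ⊗[R] A' →ₐ[R] A ⊗[A''] A := Algebra.TensorProduct.lift iL ψ fun _ _ => Commute.all _ _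
  have hlam : lam (TensorProduct.map LinearMap.id (g : A →ₗ[R] A') (Coalgebra.comul (R := R) a)) =
      (toConv iL * u).ofConv a := by
    rw [AlgHom.convMul_apply]
    generalize Coalgebra.comul (R := R) a = t
    induction t using TensorProduct.induction_on with
    | zero => simp
    | add t t' ht ht' => simp only [map_add, ht, ht']
    | tmul b c =>
      simp only [TensorProduct.map_tmul, LinearMap.id_apply, Algebra.TensorProduct.map_tmul,
        Algebra.TensorProduct.lmul'_apply_tmul]
      show iL b * ψ (g c) = _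
      rw [hψ]
      rfl
  have hid : toConv iL * u = toConv iR := by
    show toConv iL * (toConv (iL.comp (HopfAlgebra.antipodeAlgHom R A)) * toConv iR) = _
    have h2 : toConv iL * (toConv (iL.comp (HopfAlgebra.antipodeAlgHom R A))) =
        (1 : WithConv (A →ₐ[R] A ⊗[A''] A)) := by
      have h := congrArg (FinHopf.Deligne.postHom iL)
        (FinHopf.Deligne.mul_inv' (toConv (AlgHom.id R A)))
      rwa [map_mul, map_one] at h
    rw [← mul_assoc, h2, one_mul]
  rw [ha, hid] at hlam
  have hlam' : a ⊗ₜ[A''] (1 : A) = (1 : A) ⊗ₜ[A''] a := by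
    refine Eq.trans ?_ hlam
    show iL a = lam (a ⊗ₜ[R] 1)
    simp [lam]
  have h := congrArg (fun z => TensorProduct.lid A'' A (r'.rTensor A z)) hlam'
  simp only [LinearMap.rTensor_tmul, TensorProduct.lid_tmul, hr1, one_smul] at h
  rw [Algebra.smul_def, mul_one] at h
  exact h

end Coinv

end Groth.Agent.CartKit
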