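import Groth.Agent.CartKit.UnitComp
import Mathlib.RingTheory.Smooth.Fiber

/-!
# Extensions of finite flat groups: étaleness over the quotient
-/

open TensorProduct WithConv

universe u

namespace Groth.Agent.CartKit

theorem formallyUnramified_of_tensor {B A : Type u} [CommRing B] [CommRing A] [Algebra B A] [Module.Finite B A]
    (h : Algebra.FormallyUnramified A (A ⊗[B] A)) : Algebra.FormallyUnramified B A := by
  rw [Algebra.FormallyUnramified.iff_exists_tensorProduct]
  let m : A ⊗[B] A →ₐ[A] A := Algebra.TensorProduct.lift (AlgHom.id A A) (AlgHom.id B A) fun _ _ => Commute.all _ _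
  let d := Algebra.FormallyUnramified.elem A (A ⊗[B] A)
  let φ : (A ⊗[B] A) ⊗[A] (A ⊗[B] A) →ₐ[A] A ⊗[B] A :=
    Algebra.TensorProduct.lift (AlgHom.id A (A ⊗[B] A)) ((Algebra.ofId A (A ⊗[B] A)).comp m)
      fun _ _ => Commute.all _ _
  have hm : ∀ z, m z = Algebra.TensorProduct.lmul' B z := by
    intro z
    induction z using TensorProduct.induction_on with
    | zero => simp
    | add x y hx hy => simp only [map_add, hx, hy]
    | tmul x y => simp [m]
  have hmφ : ∀ w, m (φ w) = m (Algebra.TensorProduct.lmul' A w) := by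
    intro w
    induction w using TensorProduct.induction_on with
    | zero => simp
    | add x y hx hy => simp only [map_add, hx, hy]
    | tmul x y => simp only [φ, Algebra.TensorProduct.lift_tmul, map_mul, Algebra.TensorProduct.lmul'_apply_tmul, AlgHom.id_apply, AlgHom.comp_apply, Algebra.ofId_apply, AlgHom.commutes, Algebra.algebraMap_self, RingHom.id_apply]
  refine ⟨φ d, fun a => ?_, ?_⟩
  · have h1 := congrArg φ (Algebra.FormallyUnramified.one_tmul_mul_elem (R := A) (S := A ⊗[B] A) ((1 : A) ⊗ₜ[B] a))
    simp only [map_mul, φ, Algebra.TensorProduct.lift_tmul, map_one, one_mul, mul_one, AlgHom.comp_apply,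
      AlgHom.id_apply, Algebra.ofId_apply, m, Algebra.TensorProduct.algebraMap_apply, Algebra.algebraMap_self,
      RingHom.id_apply] at h1
    rw [sub_mul, sub_eq_zero]
    exact h1.symm
  · rw [← hm, hmφ, Algebra.FormallyUnramified.lmul_elem, map_one]

variable {R : Type u} [CommRing R] {A A'' : Type u} [CommRing A] [HopfAlgebra R A]
  [CommRing A''] [HopfAlgebra R A''] [Algebra A'' A] [IsScalarTower R A'' A]
  (hΔ : (Bialgebra.comulAlgHom R A).comp (IsScalarTower.toAlgHom R A'' A) =
    (Algebra.TensorProduct.map (IsScalarTower.toAlgHom R A'' A) (IsScalarTower.toAlgHom R A'' A)).comp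
      (Bialgebra.comulAlgHom R A''))
  (hε : (Bialgebra.counitAlgHom R A).comp (IsScalarTower.toAlgHom R A'' A) = Bialgebra.counitAlgHom R A'')

include hΔ hε

/-- `A` is étale over `A''` if the kernel is unramified. -/
theorem etale_over [IsNoetherianRing R] [Module.Finite R A] [Module.Finite R A''] [Module.Flat A'' A]
    [Algebra.FormallyUnramified R (A ⧸ (RingHom.ker (Bialgebra.counitAlgHom R A'')).map (algebraMap A'' A))] :
    Algebra.Etale A'' A := by
  let J : Ideal A := (RingHom.ker (Bialgebra.counitAlgHom R A'')).map (algebraMap A'' A)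
  let ib : A'' →ₐc[R] A := BialgHom.ofAlgHom (IsScalarTower.toAlgHom R A'' A) hε hΔ.symm
  let l : A →ₐ[R] A ⊗[A''] A := (Algebra.TensorProduct.includeLeft : A →ₐ[A] A ⊗[A''] A).restrictScalars R
  let r : A →ₐ[R] A ⊗[A''] A := (Algebra.TensorProduct.includeRight : A →ₐ[A''] A ⊗[A''] A).restrictScalars R
  let lS : A →ₐ[R] A ⊗[A''] A := l.comp (HopfAlgebra.antipodeAlgHom R A)
  let χ : A →ₐ[R] A ⊗[A''] A := (toConv lS * toConv r).ofConv
  have hlS : toConv l * toConv lS = 1 := by
    have h := congrArg (fun f : WithConv (A →ₐ[R] A) => toConv (l.comp f.ofConv))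
      (mul_inv_cancel (toConv (AlgHom.id R A)))
    simp only [AlgHom.comp_convMul_distrib, toConv_ofConv] at h
    refine Eq.trans h ?_
    exact WithConv.ofConv_injective (AlgHom.ext fun a => by
      simp [AlgHom.convOne_def, l, Algebra.TensorProduct.algebraMap_apply])
  have hSl : toConv lS * toConv l = 1 := by
    have h := congrArg (fun f : WithConv (A →ₐ[R] A) => toConv (l.comp f.ofConv))
      (inv_mul_cancel (toConv (AlgHom.id R A)))
    simp only [AlgHom.comp_convMul_distrib, toConv_ofConv] at h
    refine Eq.trans h ?_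
    exact WithConv.ofConv_injective (AlgHom.ext fun a => by
      simp [AlgHom.convOne_def, l, Algebra.TensorProduct.algebraMap_apply])
  have hri : r.comp (ib : A'' →ₐ[R] A) = l.comp (ib : A'' →ₐ[R] A) := AlgHom.ext fun x => by
    show (1 : A) ⊗ₜ[A''] algebraMap A'' A x = algebraMap A'' A x ⊗ₜ[A''] 1
    rw [Algebra.algebraMap_eq_smul_one, TensorProduct.tmul_smul, TensorProduct.smul_tmul']
  have hχi : χ.comp (ib : A'' →ₐ[R] A) = (1 : WithConv (A'' →ₐ[R] A ⊗[A''] A)).ofConv := by
    rw [AlgHom.convMul_comp_bialgHom_distrib]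
    simp only [toConv_ofConv, hri]
    have h := congrArg (fun f : WithConv (A →ₐ[R] A ⊗[A''] A) => f.ofConv.comp (ib : A'' →ₐ[R] A)) hSl
    rw [AlgHom.convMul_comp_bialgHom_distrib] at h
    simp only [toConv_ofConv] at h
    refine h.trans (AlgHom.ext fun x => ?_)
    rw [AlgHom.comp_apply, AlgHom.convOne_apply, AlgHom.convOne_apply]
    exact congrArg _ (CoalgHomClass.counit_comp_apply ib x)
  have hJ : ∀ a ∈ J, χ a = 0 := by
    intro a ha
    have : J ≤ RingHom.ker χ := Ideal.map_le_iff_le_comap.2 fun x hx => by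
      rw [Ideal.mem_comap, RingHom.mem_ker]
      show (χ.comp (ib : A'' →ₐ[R] A)) x = 0
      rw [hχi, AlgHom.convOne_apply, show Coalgebra.counit (R := R) x = 0 from hx, map_zero]
    exact this ha
  let χb : A ⧸ J →ₐ[R] A ⊗[A''] A := Ideal.Quotient.liftₐ J χ hJ
  let Ξ : A ⊗[R] (A ⧸ J) →ₐ[A] A ⊗[A''] A :=
    Algebra.TensorProduct.lift (Algebra.TensorProduct.includeLeft : A →ₐ[A] A ⊗[A''] A) χb
      fun _ _ => Commute.all _ _
  have hsurj : Function.Surjective Ξ := by
    intro z
    induction z using TensorProduct.induction_on with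
    | zero => exact ⟨0, map_zero _⟩
    | add x y hx hy =>
      obtain ⟨p, rfl⟩ := hx
      obtain ⟨q, rfl⟩ := hy
      exact ⟨p + q, map_add _ _ _⟩
    | tmul a b =>
      refine ⟨a • Algebra.TensorProduct.map (AlgHom.id R A) (Ideal.Quotient.mkₐ R J) (Coalgebra.comul (R := R) b), ?_⟩
      have h2 : toConv l * toConv χ = toConv r := by
        rw [show toConv χ = toConv lS * toConv r from rfl, ← mul_assoc, hlS, one_mul]
      have h3 : Ξ (Algebra.TensorProduct.map (AlgHom.id R A) (Ideal.Quotient.mkₐ R J) (Coalgebra.comul (R := R) b)) =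
          r b := by
        rw [← show (toConv l * toConv χ) b = r b by rw [h2], AlgHom.convMul_apply]
        generalize Coalgebra.comul (R := R) b = t
        induction t using TensorProduct.induction_on with
        | zero => simp
        | add x y hx hy => simp only [map_add, hx, hy]
        | tmul x y => simp [Ξ, χb, l]
      rw [map_smul, h3]
      show a • ((1 : A) ⊗ₜ[A''] b) = a ⊗ₜ b
      rw [TensorProduct.smul_tmul', smul_eq_mul, mul_one]
  haveI : Algebra.FormallyUnramified A (A ⊗[R] (A ⧸ J)) := inferInstance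
  haveI : Algebra.FormallyUnramified A (A ⊗[A''] A) := Algebra.FormallyUnramified.of_surjective Ξ hsurj
  haveI : Module.Finite A'' A := Module.Finite.of_restrictScalars_finite R A'' A
  haveI := formallyUnramified_of_tensor (B := A'') (A := A) inferInstance
  haveI : IsNoetherianRing A'' := IsNoetherianRing.of_finite R A''
  haveI : Algebra.FinitePresentation A'' A := Algebra.FinitePresentation.of_finiteType.mp inferInstance
  exact Algebra.Etale.of_formallyUnramified_of_flat

end Groth.Agent.CartKit
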