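import Groth.Agent.BTLib.FibreFlat
import Groth.Agent.S0607
import Groth.Agent.CartKit.Basic
import Groth.Prelude.Def_CartDual2

/-!
# Fibrewise faithful flatness for maps of finite projective Hopf algebras

The flatness and surjectivity arguments are those of `Groth.Agent.BTLib.FibreFlat.faithfullyFlat_of_torsor`,
with the hypothesis on the fibres made explicit.
-/

namespace Groth.Agent.CartKit

universe u

open TensorProduct

open Groth.Agent.BTLib.FibreFlat in
theorem faithfullyFlat_of_fibres {R A C : Type u} [CommRing R] [IsNoetherianRing R] [CommRing A] [CommRing C]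
    [Algebra R A] [Algebra R C] [Module.Finite R A] [Module.Projective R A] [Module.Finite R C]
    (f : C →ₐ[R] A)
    (hfib : ∀ (P : Ideal R) [P.IsPrime],
      letI := (Algebra.TensorProduct.map (AlgHom.id R P.ResidueField) f).toRingHom.toAlgebra
      Module.FaithfullyFlat (P.ResidueField ⊗[R] C) (P.ResidueField ⊗[R] A)) :
    f.toRingHom.FaithfullyFlat := by
  classical
  letI := f.toRingHom.toAlgebra
  haveI : IsScalarTower R C A := IsScalarTower.of_algebraMap_eq fun r => (f.commutes r).symm
  have : IsNoetherianRing C := IsNoetherianRing.of_finite R C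
  have : Module.Finite C A := Module.Finite.of_restrictScalars_finite R C A
  -- flatness
  have hflat : Module.Flat C A := by
    refine Module.flat_of_localized_maximal _ fun q hq => ?_
    let L := Localization.AtPrime q
    let P : Ideal R := q.comap (algebraMap R C)
    haveI : P.IsPrime := hq.isPrime.comap _
    let N := LocalizedModule q.primeCompl A
    have : Module.Flat R N := by
      exact QFDLib.flat_of_isLocalizedModule_of_factor q.primeCompl (LocalizedModule.mkLinearMap q.primeCompl A)
        (P := A) LinearMap.id LinearMap.id 1 (fun a => (one_smul C a).symm)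
    suffices Module.Flat L N from Module.Flat.trans C L N
    have : IsNoetherianRing L := IsLocalization.isNoetherianRing q.primeCompl L inferInstance
    let J : Ideal L := P.map (algebraMap R L)
    have hJ : J ≠ ⊤ := by
      refine fun h => (IsLocalRing.maximalIdeal.isMaximal L).ne_top (top_unique (h ▸ Ideal.map_le_iff_le_comap.2 fun a ha => ?_))
      rw [Ideal.mem_comap, IsScalarTower.algebraMap_apply R C L]
      exact (IsLocalization.AtPrime.to_map_mem_maximal_iff L q _).2 ha
    refine flat_of_fibre P hJ ?_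
    let φκ : P.ResidueField →+* L ⧸ J :=
      Ideal.ResidueField.lift P ((Ideal.Quotient.mk J).comp (algebraMap R L))
        (fun a ha => RingHom.mem_ker.2 (Ideal.Quotient.eq_zero_iff_mem.2 (Ideal.mem_map_of_mem _ ha)))
        (fun a ha => IsUnit.map (Ideal.Quotient.mk J) (by
          rw [IsScalarTower.algebraMap_apply R C L]
          exact IsLocalization.map_units L (⟨algebraMap R C a, ha⟩ : q.primeCompl)))
    let φR : P.ResidueField →ₐ[R] L ⧸ J :=
      { φκ with commutes' := fun a => Ideal.ResidueField.lift_algebraMap P _ _ _ a }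
    let κ := P.ResidueField
    let fκ : κ ⊗[R] C →ₐ[R] κ ⊗[R] A := Algebra.TensorProduct.map (AlgHom.id R κ) f
    letI := fκ.toRingHom.toAlgebra
    have hfl : Module.FaithfullyFlat (κ ⊗[R] C) (κ ⊗[R] A) := hfib P
    let χ : κ ⊗[R] C →ₐ[R] L ⧸ J :=
      Algebra.TensorProduct.lift φR (IsScalarTower.toAlgHom R C (L ⧸ J)) fun _ _ => Commute.all _ _
    letI : Algebra (κ ⊗[R] C) (L ⧸ J) := χ.toRingHom.toAlgebra
    letI : Algebra C (κ ⊗[R] C) := Algebra.TensorProduct.rightAlgebra
    letI : Algebra A (κ ⊗[R] A) := Algebra.TensorProduct.rightAlgebra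
    letI : Algebra C (κ ⊗[R] A) :=
      ((algebraMap (κ ⊗[R] C) (κ ⊗[R] A)).comp (algebraMap C (κ ⊗[R] C))).toAlgebra
    haveI : IsScalarTower C (κ ⊗[R] C) (κ ⊗[R] A) := IsScalarTower.of_algebraMap_eq fun _ => rfl
    haveI : IsScalarTower C A (κ ⊗[R] A) := IsScalarTower.of_algebraMap_eq fun c => by
      show fκ ((1 : κ) ⊗ₜ[R] c) = (1 : κ) ⊗ₜ[R] f c
      rfl
    haveI : IsScalarTower C (κ ⊗[R] C) (L ⧸ J) := IsScalarTower.of_algebraMap_eq fun c => by
      show _ = χ ((1 : κ) ⊗ₜ[R] c)
      rw [Algebra.TensorProduct.lift_tmul, map_one, one_mul]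
      rfl
    haveI : IsScalarTower κ (κ ⊗[R] C) (κ ⊗[R] A) := IsScalarTower.of_algebraMap_eq fun a => by
      show a ⊗ₜ[R] (1 : A) = fκ (a ⊗ₜ[R] (1 : C))
      exact (congrArg (fun z => a ⊗ₜ[R] z) (map_one f)).symm
    haveI : Algebra.IsPushout R κ C (κ ⊗[R] C) := inferInstance
    haveI : Algebra.IsPushout R C κ (κ ⊗[R] C) := Algebra.IsPushout.symm inferInstance
    have hpush : Algebra.IsPushout C A (κ ⊗[R] C) (κ ⊗[R] A) :=
      (Algebra.IsPushout.comp_iff R C κ (κ ⊗[R] C)).1 (Algebra.IsPushout.symm (inferInstance : Algebra.IsPushout R κ A (κ ⊗[R] A)))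
    have hbc : IsBaseChange (κ ⊗[R] C) ((IsScalarTower.toAlgHom C A (κ ⊗[R] A)).toLinearMap) :=
      (Algebra.IsPushout.symm hpush).out
    refine Module.Flat.of_linearEquiv (M := (L ⧸ J) ⊗[κ ⊗[R] C] (κ ⊗[R] A)) ?_
    exact ((TensorProduct.AlgebraTensorModule.congr (LinearEquiv.refl (L ⧸ J) (L ⧸ J))
        (LocalizedModule.equivTensorProduct q.primeCompl A)).trans
      (TensorProduct.AlgebraTensorModule.cancelBaseChange C L (L ⧸ J) (L ⧸ J) A)).trans
      ((TensorProduct.AlgebraTensorModule.congr (LinearEquiv.refl (L ⧸ J) (L ⧸ J)) hbc.equiv.symm).trans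
        (TensorProduct.AlgebraTensorModule.cancelBaseChange C (κ ⊗[R] C) (L ⧸ J) (L ⧸ J) A)).symm
  -- surjectivity
  have hcomap : Function.Surjective (PrimeSpectrum.comap (algebraMap C A)) := by
    intro Q
    let P : Ideal R := Q.asIdeal.comap (algebraMap R C)
    haveI : P.IsPrime := Q.isPrime.comap _
    let κ := P.ResidueField
    let fκ : κ ⊗[R] C →ₐ[R] κ ⊗[R] A := Algebra.TensorProduct.map (AlgHom.id R κ) f
    letI := fκ.toRingHom.toAlgebra
    have hfl : Module.FaithfullyFlat (κ ⊗[R] C) (κ ⊗[R] A) := hfib P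
    let φκ : κ →+* Q.asIdeal.ResidueField :=
      Ideal.ResidueField.lift P (algebraMap R Q.asIdeal.ResidueField)
        (fun a ha => by
          rw [RingHom.mem_ker, IsScalarTower.algebraMap_apply R C, Ideal.algebraMap_residueField_eq_zero]
          exact ha)
        (fun a ha => isUnit_iff_ne_zero.2 fun h => ha (by
          rw [IsScalarTower.algebraMap_apply R C, Ideal.algebraMap_residueField_eq_zero] at h
          exact h))
    let φR : κ →ₐ[R] Q.asIdeal.ResidueField :=
      { φκ with commutes' := fun a => Ideal.ResidueField.lift_algebraMap P _ _ _ a }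
    let χ : κ ⊗[R] C →ₐ[R] Q.asIdeal.ResidueField :=
      Algebra.TensorProduct.lift φR (IsScalarTower.toAlgHom R C _) fun _ _ => Commute.all _ _
    obtain ⟨Q₁, hQ₁⟩ := PrimeSpectrum.comap_surjective_of_faithfullyFlat (A := κ ⊗[R] C) (B := κ ⊗[R] A)
      ⟨RingHom.ker χ, RingHom.ker_isPrime _⟩
    refine ⟨PrimeSpectrum.comap (Algebra.TensorProduct.includeRight : A →ₐ[R] κ ⊗[R] A).toRingHom Q₁, ?_⟩
    refine PrimeSpectrum.ext (Ideal.ext fun c => ?_)
    have h := SetLike.ext_iff.1 (congrArg PrimeSpectrum.asIdeal hQ₁) ((1 : κ) ⊗ₜ[R] c)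
    rw [PrimeSpectrum.comap_asIdeal, Ideal.mem_comap, RingHom.mem_ker, Algebra.TensorProduct.lift_tmul, map_one,
      one_mul, IsScalarTower.toAlgHom_apply, Ideal.algebraMap_residueField_eq_zero] at h
    exact h
  exact (RingHom.faithfullyFlat_algebraMap_iff (R := C) (S := A)).2 (Module.FaithfullyFlat.of_comap_surjective hcomap)

/-- An `R`-split injective map of finite projective Hopf algebras is faithfully flat. -/
theorem faithfullyFlat_of_retraction {R A C : Type u} [CommRing R] [IsNoetherianRing R] [CommRing A] [CommRing C]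
    [HopfAlgebra R A] [HopfAlgebra R C] [Module.Finite R A] [Module.Projective R A] [Module.Finite R C]
    (f : C →ₐc[R] A) (r : A →ₗ[R] C) (hr : ∀ c, r (f c) = c) :
    (f : C →ₐ[R] A).toRingHom.FaithfullyFlat := by
  refine faithfullyFlat_of_fibres (f : C →ₐ[R] A) fun P hP => ?_
  let κ := P.ResidueField
  let fκ : κ ⊗[R] C →ₐc[κ] κ ⊗[R] A := Bialgebra.TensorProduct.map (BialgHom.id κ κ) f
  have hinj : Function.Injective fκ := by
    refine Function.LeftInverse.injective (g := (r.baseChange κ)) fun z => ?_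
    induction z using TensorProduct.induction_on with
    | zero => simp
    | add z z' hz hz' => simp only [map_add, hz, hz']
    | tmul a c =>
      show r.baseChange κ (a ⊗ₜ[R] f c) = a ⊗ₜ[R] c
      rw [LinearMap.baseChange_tmul, hr]
  letI := (Algebra.TensorProduct.map (AlgHom.id R κ) (f : C →ₐ[R] A)).toRingHom.toAlgebra
  exact RingHom.faithfullyFlat_algebraMap_iff.1 (S0607.result fκ hinj)

end Groth.Agent.CartKit
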