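import Mathlib.RingTheory.Flat.Stability
import Mathlib.RingTheory.Idempotents
import Mathlib.LinearAlgebra.TensorProduct.Quotient

/-!
# Quotients by idempotents and flatness
-/

open TensorProduct

universe u v w

namespace Groth.Agent.CartKit

variable {A : Type u} [CommRing A]

theorem flat_quot_idem {e : A} (he : IsIdempotentElem e) :
    Module.Flat A (A ⧸ Ideal.span ({1 - e} : Set A)) := by
  let q : A →ₗ[A] A ⧸ Ideal.span ({1 - e} : Set A) := (Ideal.span ({1 - e} : Set A)).mkQ
  let s : A ⧸ Ideal.span ({1 - e} : Set A) →ₗ[A] A :=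
    Submodule.liftQ _ (LinearMap.mulRight A e) (by
      intro a ha
      obtain ⟨b, rfl⟩ := Ideal.mem_span_singleton'.1 ha
      show b * (1 - e) * e = 0
      rw [mul_assoc, sub_mul, one_mul, he.eq, sub_self, mul_zero])
  refine Module.Flat.of_retract s q (LinearMap.ext fun x => ?_)
  obtain ⟨a, rfl⟩ := Submodule.Quotient.mk_surjective _ x
  show Submodule.Quotient.mk (a * e) = Submodule.Quotient.mk a
  refine (Submodule.Quotient.eq _).2 (Ideal.mem_span_singleton'.2 ⟨-a, by ring⟩)

/-- `(B ⧸ I) ⊗_B L = L` when `L` is a `B ⧸ I`-module. -/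
noncomputable def tensorQuotEquiv {B : Type v} [CommRing B] (I : Ideal B) (L : Type w) [AddCommGroup L]
    [Module B L] [Module (B ⧸ I) L] [IsScalarTower B (B ⧸ I) L] :
    (B ⧸ I) ⊗[B] L ≃ₗ[B ⧸ I] L :=
  LinearEquiv.ofLinearMap (AlgebraTensorModule.lift
      ((LinearMap.lsmul (B ⧸ I) L).flip.restrictScalars B).flip)
    { toFun := fun x => (1 : B ⧸ I) ⊗ₜ x
      map_add' := fun x y => TensorProduct.tmul_add _ _ _
      map_smul' := fun c x => by
        obtain ⟨b, rfl⟩ := Ideal.Quotient.mk_surjective c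
        show (1 : B ⧸ I) ⊗ₜ[B] (Ideal.Quotient.mk I b • x) = Ideal.Quotient.mk I b • ((1 : B ⧸ I) ⊗ₜ[B] x)
        rw [← Ideal.Quotient.algebraMap_eq, algebraMap_smul, algebraMap_smul, TensorProduct.tmul_smul] }
    (LinearMap.ext fun x => by simp)
    (LinearMap.ext fun z => by
      induction z using TensorProduct.induction_on with
      | zero => simp
      | add x y hx hy => simp only [map_add, hx, hy]
      | tmul c x =>
        obtain ⟨b, rfl⟩ := Ideal.Quotient.mk_surjective c
        simp [← Ideal.Quotient.algebraMap_eq, algebraMap_smul, TensorProduct.smul_tmul', Algebra.smul_def])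

end Groth.Agent.CartKit
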