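import Groth.Agent.CartKit.InfLayers
import Groth.Agent.CAlg48.PSEval
import Groth.Agent.CAlg48.AdicPow
import Groth.Agent.Adic.CV.Complete
import Mathlib.RingTheory.MvPowerSeries.Inverse
import Mathlib.RingTheory.MvPowerSeries.Equiv
import Mathlib.RingTheory.AdicCompletion.Noetherian
import Mathlib.RingTheory.AdicCompletion.Functoriality
import Mathlib.RingTheory.LocalRing.Module

/-!
# Lifting a truncated polynomial presentation over a complete local ring
-/

open TensorProduct IsLocalRing

universe u v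

noncomputable section

namespace Groth.Agent.CartKit.InfStruct

/-- the exponent vector -/
def expo {n : ℕ} {q : Fin n → ℕ} (a : (i : Fin n) → Fin (q i)) : Fin n →₀ ℕ :=
  Finsupp.equivFunOnFinite.symm fun i => (a i : ℕ)

theorem expo_injective {n : ℕ} {q : Fin n → ℕ} : Function.Injective (expo (q := q)) := fun a b h =>
  funext fun i => Fin.ext (DFunLike.congr_fun h i)

theorem span_trunc_eq_top {k : Type u} [Field k] (p : ℕ) {n : ℕ} (e : Fin n → ℕ) :
    Submodule.span k (Set.range fun a : (i : Fin n) → Fin (p ^ e i) =>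
      (Ideal.Quotient.mk _ (MvPolynomial.monomial (expo a) 1) : Trunc p k e)) = ⊤ := by
  classical
  rw [eq_top_iff]
  intro x _
  obtain ⟨P, rfl⟩ := Ideal.Quotient.mk_surjective x
  induction P using MvPolynomial.induction_on' with
  | monomial d c =>
    by_cases h : ∀ i, d i < p ^ e i
    · rw [show MvPolynomial.monomial d c = c • MvPolynomial.monomial d (1 : k) by
        rw [MvPolynomial.smul_monomial, smul_eq_mul, mul_one], ← Ideal.Quotient.mkₐ_eq_mk k, map_smul]
      exact Submodule.smul_mem _ _ (Submodule.subset_span ⟨fun i => ⟨d i, h i⟩, by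
        show Ideal.Quotient.mk _ _ = _
        rw [show expo (q := fun i => p ^ e i) (fun i => ⟨d i, h i⟩) = d from Finsupp.ext fun i => by simp [expo]]
        rfl⟩)
    · push Not at h
      obtain ⟨i, hi⟩ := h
      convert Submodule.zero_mem _
      rw [Ideal.Quotient.eq_zero_iff_mem,
        show MvPolynomial.monomial d c = MvPolynomial.monomial (d - Finsupp.single i (p ^ e i)) c * MvPolynomial.X i ^ p ^ e i by
          rw [MvPolynomial.X_pow_eq_monomial, MvPolynomial.monomial_mul, mul_one,
            tsub_add_cancel_of_le (Finsupp.single_le_iff.2 hi)]]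
      exact Ideal.mul_mem_left _ _ (Ideal.subset_span ⟨i, rfl⟩)
  | add P Q hP hQ => rw [map_add]; exact Submodule.add_mem _ (hP trivial) (hQ trivial)

/-- Every series is a combination of the bounded monomials modulo the pure powers. -/
theorem exists_decomp {R : Type u} [CommRing R] {n : ℕ} (q : Fin n → ℕ) (F : MvPowerSeries (Fin n) R) :
    ∃ H : Fin n → MvPowerSeries (Fin n) R,
      F = (∑ a : (i : Fin n) → Fin (q i), MvPowerSeries.monomial (expo a) (MvPowerSeries.coeff (expo a) F)) +
        ∑ i, MvPowerSeries.monomial (Finsupp.single i (q i)) (1 : R) * H i := by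
  classical
  let first : (Fin n →₀ ℕ) → Fin n → Prop := fun d i => q i ≤ d i ∧ ∀ j, j < i → d j < q j
  refine ⟨fun i d => if first (d + Finsupp.single i (q i)) i then
    MvPowerSeries.coeff (d + Finsupp.single i (q i)) F else 0, ?_⟩
  ext d
  rw [map_add, map_sum, map_sum]
  simp only [MvPowerSeries.coeff_monomial, MvPowerSeries.coeff_monomial_mul, one_mul]
  have h2 : ∀ i, (if Finsupp.single i (q i) ≤ d then
      MvPowerSeries.coeff (d - Finsupp.single i (q i)) (fun d' => if first (d' + Finsupp.single i (q i)) i then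
        MvPowerSeries.coeff (d' + Finsupp.single i (q i)) F else 0 : MvPowerSeries (Fin n) R) else 0) =
      if first d i then MvPowerSeries.coeff d F else 0 := by
    intro i
    by_cases h : Finsupp.single i (q i) ≤ d
    · rw [if_pos h]
      show (if first _ i then _ else _) = _
      rw [tsub_add_cancel_of_le h]
    · rw [if_neg h, if_neg]
      exact fun hf => h (Finsupp.single_le_iff.2 hf.1)
  simp only [h2]
  by_cases h : ∀ i, d i < q i
  · have ha : expo (fun i => (⟨d i, h i⟩ : Fin (q i))) = d := Finsupp.ext fun i => by simp [expo]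
    rw [Finset.sum_eq_single (fun i => (⟨d i, h i⟩ : Fin (q i)))
      (fun b _ hb => if_neg fun hd => hb (expo_injective (hd.symm.trans ha.symm))) (by simp),
      if_pos ha.symm, ha, Finset.sum_eq_zero (s := Finset.univ) (f := fun i => if first d i then _ else 0)
        (fun i _ => if_neg fun hf => (Nat.not_le.2 (h i)) hf.1), add_zero]
  · push Not at h
    obtain ⟨i₀, hi₀⟩ := h
    let S := Finset.univ.filter fun i => q i ≤ d i
    have hS : S.Nonempty := ⟨i₀, by simp [S, hi₀]⟩
    let i := S.min' hS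
    have hi : first d i := by
      refine ⟨(Finset.mem_filter.1 (S.min'_mem hS)).2, fun j hj => Nat.lt_of_not_le fun hjd => ?_⟩
      exact absurd (S.min'_le j (by simp [S, hjd])) (not_le.2 hj)
    rw [Finset.sum_eq_zero (fun a _ => if_neg fun hd => (Nat.not_le.2 (a i₀).isLt) (by
      rw [hd] at hi₀; simpa [expo] using hi₀)), zero_add,
      Finset.sum_eq_single i (fun j _ hj => if_neg fun hf => hj ?_) (by simp), if_pos hi]
    rcases lt_trichotomy j i with hlt | heq | hgt
    · exact absurd hf.1 (Nat.not_le.2 (hi.2 j hlt))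
    · exact heq
    · exact absurd hi.1 (Nat.not_le.2 (hf.2 i hgt))

variable {R : Type u} [CommRing R] [IsNoetherianRing R] [IsLocalRing R] [IsAdicComplete (maximalIdeal R) R]
  {A : Type v} [CommRing A] [Algebra R A] [Module.Finite R A] [Module.Free R A] [IsLocalRing A]

omit [IsNoetherianRing R] [IsAdicComplete (maximalIdeal R) R] [Module.Finite R A] [Module.Free R A] in
theorem ker_includeRight (a : A) (ha : ((1 : ResidueField R) ⊗ₜ[R] a) = 0) :
    a ∈ (maximalIdeal R) • (⊤ : Submodule R A) := by
  have ha' : ((Ideal.Quotient.mk (maximalIdeal R) 1) ⊗ₜ[R] a : (R ⧸ maximalIdeal R) ⊗[R] A) = 0 := ha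
  have := congrArg (TensorProduct.quotTensorEquivQuotSMul A (maximalIdeal R)) ha'
  rw [map_zero] at this
  change (TensorProduct.quotTensorEquivQuotSMul A (maximalIdeal R)) ((Ideal.Quotient.mk _ 1) ⊗ₜ[R] a) = 0 at this
  rw [TensorProduct.quotTensorEquivQuotSMul_mk_tmul, one_smul, Submodule.Quotient.mk_eq_zero] at this
  exact this

theorem exists_system (p : ℕ) [Fact p.Prime] [CharP (ResidueField R) p] {n : ℕ} (e : Fin n → ℕ)
    (ψ : (ResidueField R ⊗[R] A) ≃ₐ[ResidueField R] Trunc p (ResidueField R) e) :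
    (∃ x : Fin n → A, (∀ i, x i ∈ maximalIdeal A) ∧
      ⊤ ≤ Submodule.span R (Set.range fun a : (i : Fin n) → Fin (p ^ e i) => ∏ i, x i ^ (a i : ℕ)) ∧
      ∀ i, ∃ c : ((i : Fin n) → Fin (p ^ e i)) → R, (∀ a, c a ∈ maximalIdeal R) ∧
        ∑ a, c a • (∏ i, x i ^ (a i : ℕ)) = x i ^ p ^ e i) ∧
    (∃ d, maximalIdeal A ^ d ≤ (maximalIdeal R).map (algebraMap R A)) ∧
    Fintype.card ((i : Fin n) → Fin (p ^ e i)) = Module.finrank R A := by
  classical
  have hp : 0 < p := (Fact.out : p.Prime).pos
  let k := ResidueField R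
  let ι := (i : Fin n) → Fin (p ^ e i)
  let incl : A →ₐ[R] k ⊗[R] A := Algebra.TensorProduct.includeRight
  have hincl : Function.Surjective incl := by
    intro z
    induction z using TensorProduct.induction_on with
    | zero => exact ⟨0, map_zero _⟩
    | add x y hx hy =>
      obtain ⟨a, rfl⟩ := hx
      obtain ⟨b, rfl⟩ := hy
      exact ⟨a + b, map_add _ _ _⟩
    | tmul c a =>
      obtain ⟨r, rfl⟩ := IsLocalRing.residue_surjective c
      refine ⟨r • a, ?_⟩
      rw [map_smul]
      show r • ((1 : k) ⊗ₜ[R] a) = _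
      rw [TensorProduct.smul_tmul', Algebra.smul_def, mul_one]
      rfl
  have hnt : Nontrivial (k ⊗[R] A) := by
    refine Module.nontrivial_of_finrank_pos (R := k) ?_
    rw [ψ.toLinearEquiv.finrank_eq, finrank_trunc]
    exact pow_pos hp _
  refine ⟨?_, ?_, ?_⟩
  · choose x hx using fun i => hincl (ψ.symm (Ideal.Quotient.mk _ (MvPolynomial.X i)))
    let M : ι → A := fun a => ∏ i, x i ^ (a i : ℕ)
    have hM : ∀ a, incl (M a) = ψ.symm (Ideal.Quotient.mk _ (MvPolynomial.monomial (expo a) 1)) := by
      intro a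
      rw [map_prod, MvPolynomial.monomial_eq, map_one, one_mul, Finsupp.prod_fintype _ _ (fun i => pow_zero _),
        map_prod, map_prod]
      exact Finset.prod_congr rfl fun i _ => by simp [map_pow, hx, expo]
    have hspan : ⊤ ≤ Submodule.span R (Set.range M) := by
      refine Submodule.le_of_le_smul_of_le_jacobson_bot Module.Finite.fg_top
        (IsLocalRing.maximalIdeal_le_jacobson _) fun a _ => ?_
      have h1 : ψ (incl a) ∈ Submodule.span k (Set.range fun a : ι =>
          (Ideal.Quotient.mk _ (MvPolynomial.monomial (expo a) 1) : Trunc p k e)) := by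
        rw [span_trunc_eq_top]; trivial
      obtain ⟨c, hc⟩ := (Submodule.mem_span_range_iff_exists_fun k).1 h1
      choose r hr using fun i => IsLocalRing.residue_surjective (c i)
      have h2 : incl (a - ∑ i, r i • M i) = 0 := by
        apply ψ.injective
        rw [map_sub, map_sum, map_sub, map_sum, map_zero, sub_eq_zero, ← hc]
        refine Finset.sum_congr rfl fun i _ => ?_
        rw [map_smul, hM, ← IsScalarTower.algebraMap_smul k (r i), map_smul, ψ.apply_symm_apply, ← hr]
        rfl
      refine Submodule.mem_sup.2 ⟨∑ i, r i • M i,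
        Submodule.sum_mem _ fun i _ => Submodule.smul_mem _ _ (Submodule.subset_span ⟨i, rfl⟩),
        _, ker_includeRight _ h2, add_sub_cancel _ _⟩
    have hxmax : ∀ i, x i ∈ maximalIdeal A := by
      intro i hu
      have h := (hu.map incl).map ψ
      rw [hx, ψ.apply_symm_apply] at h
      have h0 : IsNilpotent (Ideal.Quotient.mk _ (MvPolynomial.X i) : Trunc p k e) :=
        ⟨p ^ e i, by rw [← map_pow]; exact Ideal.Quotient.eq_zero_iff_mem.2 (Ideal.subset_span ⟨i, rfl⟩)⟩
      have : Nontrivial (Trunc p k e) := by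
        refine Module.nontrivial_of_finrank_pos (R := k) ?_
        rw [finrank_trunc]
        exact pow_pos hp _
      obtain ⟨N, hN⟩ := h0
      exact not_isUnit_zero (hN ▸ h.pow N)
    have hrel : ∀ i, ∃ c : ι → R, (∀ a, c a ∈ maximalIdeal R) ∧ ∑ a, c a • M a = x i ^ p ^ e i := by
      intro i
      have h0 : incl (x i ^ p ^ e i) = 0 := by
        rw [map_pow, hx, ← map_pow, ← map_pow,
          Ideal.Quotient.eq_zero_iff_mem.2 (show (MvPolynomial.X i : MvPolynomial (Fin n) k) ^ p ^ e i ∈
            Ideal.span (Set.range fun i : Fin n => (MvPolynomial.X i : MvPolynomial (Fin n) k) ^ p ^ e i) from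
            Ideal.subset_span ⟨i, rfl⟩), map_zero]
      have h1 : x i ^ p ^ e i ∈ maximalIdeal R • Submodule.span R (Set.range M) :=
        Submodule.smul_mono le_rfl hspan (ker_includeRight _ h0)
      obtain ⟨c, hc, hc'⟩ := (Submodule.mem_ideal_smul_span_iff_exists_sum (maximalIdeal R) M _).1 h1
      exact ⟨c, hc, (Finsupp.sum_fintype c (fun i r => r • M i) (fun _ => zero_smul _ _)).symm.trans hc'⟩
    exact ⟨x, hxmax, hspan, hrel⟩
  · have : IsNoetherianRing A := IsNoetherianRing.of_finite R A
    have : IsArtinianRing (k ⊗[R] A) := IsArtinianRing.of_finite k _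
    obtain ⟨d, hd⟩ := IsArtinianRing.isNilpotent_nilradical (R := k ⊗[R] A)
    refine ⟨d, fun a ha => ?_⟩
    have h1 : Ideal.map incl (maximalIdeal A) ≤ nilradical (k ⊗[R] A) := by
      refine Ideal.map_le_iff_le_comap.2 fun b hb => ?_
      have : IsLocalRing (k ⊗[R] A) := by
        exact IsLocalRing.of_surjective' incl.toRingHom hincl
      rw [Ideal.mem_comap, mem_nilradical]
      have hnu : incl b ∈ maximalIdeal (k ⊗[R] A) := fun hu => by
        obtain ⟨w, hw⟩ := hu.exists_right_inv
        obtain ⟨w', rfl⟩ := hincl w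
        rw [← map_mul, ← map_one incl, ← sub_eq_zero, ← map_sub] at hw
        have hmem := ker_includeRight _ hw
        rw [Ideal.smul_top_eq_map] at hmem
        have hle : (maximalIdeal R).map (algebraMap R A) ≤ maximalIdeal A :=
          Ideal.map_le_iff_le_comap.2 fun r hr hu => hr (isUnit_of_map_unit _ r hu)
        have h3 : b * w' - 1 ∈ maximalIdeal A := hle hmem
        have h4 : (1 : A) ∈ maximalIdeal A := by
          simpa using Ideal.sub_mem _ (Ideal.mul_mem_right w' _ hb) h3
        exact h4 isUnit_one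
      obtain ⟨m, hm⟩ := IsArtinianRing.isNilpotent_jacobson_bot (R := k ⊗[R] A)
      rw [IsLocalRing.jacobson_eq_maximalIdeal (⊥ : Ideal (k ⊗[R] A)) bot_ne_top] at hm
      exact ⟨m, by simpa using (hm ▸ Ideal.pow_mem_pow hnu m : incl b ^ m ∈ (0 : Ideal (k ⊗[R] A)))⟩
    have h2 := Ideal.mem_map_of_mem incl ha
    rw [Ideal.map_pow] at h2
    have h3 := (Ideal.pow_right_mono h1 d) h2
    rw [hd] at h3
    have h4 := ker_includeRight a h3
    rw [Ideal.smul_top_eq_map] at h4
    exact h4
  · rw [← Module.finrank_baseChange (R := k) (S := R) (M' := A), ψ.toLinearEquiv.finrank_eq, finrank_trunc,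
      Fintype.card_pi, ← Finset.prod_pow_eq_pow_sum]
    simp

omit [IsNoetherianRing R] in
theorem isAdicComplete_finite {d : ℕ} (hd : maximalIdeal A ^ d ≤ (maximalIdeal R).map (algebraMap R A))
    [IsNoetherianRing R] : IsAdicComplete (maximalIdeal A) A := by
  obtain ⟨N, b⟩ : ∃ N, Nonempty (Module.Basis (Fin N) R A) :=
    ⟨_, ⟨Module.finBasis R A⟩⟩
  obtain ⟨b⟩ := b
  have hpi := Adic.CV.isAdicComplete_piFin (I := maximalIdeal R) (M := R) N
  have : IsPrecomplete (maximalIdeal R) A :=
    Adic.CV.isPrecomplete_of_surjective b.equivFun.symm.toLinearMap b.equivFun.symm.surjective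
  have : IsHausdorff (maximalIdeal R) A := inferInstance
  have hAc : IsAdicComplete (maximalIdeal R) A := {}
  have : IsAdicComplete ((maximalIdeal R).map (algebraMap R A)) A :=
    (IsAdicComplete.map_algebraMap_iff _ _).2 hAc
  refine CAlg48.AdicPow.isAdicComplete_of_pow_le (I := (maximalIdeal R).map (algebraMap R A))
    (c := 1) (d := d + 1) one_pos d.succ_pos ?_ ?_
  · rw [pow_one]
    exact Ideal.map_le_iff_le_comap.2 fun r hr hu => hr (isUnit_of_map_unit _ r hu)
  · exact (Ideal.pow_le_pow_right d.le_succ).trans hd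

/-- A finite free local algebra whose closed fibre is truncated polynomial is a power series algebra
modulo deformed powers. -/
theorem exists_presentation (p : ℕ) [Fact p.Prime] [CharP (ResidueField R) p] {n : ℕ} (e : Fin n → ℕ)
    (ψ : (ResidueField R ⊗[R] A) ≃ₐ[ResidueField R] Trunc p (ResidueField R) e) :
    ∃ g : Fin n → MvPolynomial (Fin n) R,
      (∀ i, (∀ d, (g i).coeff d ∈ maximalIdeal R) ∧ (g i).degreeOf i < p ^ e i) ∧
      Nonempty (A ≃ₐ[R] (MvPowerSeries (Fin n) R ⧸
        Ideal.span (Set.range fun i => (MvPowerSeries.X i : MvPowerSeries (Fin n) R) ^ p ^ e i + ↑(g i)))) := by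
  classical
  have hp : 0 < p := (Fact.out : p.Prime).pos
  obtain ⟨⟨x, hxmax, hspan, hrel⟩, ⟨d, hd⟩, hcount⟩ := exists_system p e ψ
  have hA := isAdicComplete_finite hd
  let ι := (i : Fin n) → Fin (p ^ e i)
  let M : ι → A := fun a => ∏ i, x i ^ (a i : ℕ)
  choose c hcm hc using hrel
  let g : Fin n → MvPolynomial (Fin n) R := fun i => -∑ a, MvPolynomial.monomial (expo a) (c i a)
  have hgc : ∀ i d, (g i).coeff d ∈ maximalIdeal R := by
    intro i d
    simp only [g, MvPolynomial.coeff_neg, MvPolynomial.coeff_sum, MvPolynomial.coeff_monomial]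
    exact neg_mem (Ideal.sum_mem _ fun a _ => by split_ifs <;> simp [hcm])
  refine ⟨g, fun i => ⟨hgc i, ?_⟩, ?_⟩
  · rw [MvPolynomial.degreeOf_lt_iff (pow_pos hp _)]
    intro d hd
    by_contra hge
    rw [MvPolynomial.mem_support_iff] at hd
    refine hd ?_
    simp only [g, MvPolynomial.coeff_neg, MvPolynomial.coeff_sum, MvPolynomial.coeff_monomial]
    rw [Finset.sum_eq_zero fun a _ => if_neg ?_, neg_zero]
    intro h
    exact hge (h ▸ (a i).isLt)
  let P := MvPowerSeries (Fin n) R
  let J : Ideal P := Ideal.span (Set.range fun i => (MvPowerSeries.X i : P) ^ p ^ e i + ↑(g i))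
  obtain ⟨Φ, hΦ⟩ := CAlg48.PSEval.exists_algHom (k := R) (maximalIdeal A) x hxmax
  have hΦmon : ∀ a : ι, Φ (MvPowerSeries.monomial (expo a) 1) = M a := by
    intro a
    rw [← MvPolynomial.coe_monomial, MvPolynomial.monomial_eq, map_one, one_mul,
      Finsupp.prod_fintype _ _ (fun i => pow_zero _)]
    rw [← MvPolynomial.coeToMvPowerSeries.ringHom_apply, map_prod, map_prod]
    exact Finset.prod_congr rfl fun i _ => by simp [map_pow, hΦ, expo]
  have hΦg : ∀ i, Φ (↑(g i)) = -(x i ^ p ^ e i) := by
    intro i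
    rw [← hc i]
    simp only [g]
    rw [← MvPolynomial.coeToMvPowerSeries.ringHom_apply, map_neg, map_sum, map_neg, map_sum]
    congr 1
    refine Finset.sum_congr rfl fun a _ => ?_
    rw [MvPolynomial.coeToMvPowerSeries.ringHom_apply, MvPolynomial.coe_monomial]
    show _ = c i a • M a
    rw [← hΦmon, ← map_smul]
    congr 1
    rw [← map_smul, smul_eq_mul, mul_one]
  have hJ : ∀ z ∈ J, Φ z = 0 := by
    suffices J ≤ RingHom.ker Φ from fun z hz => this hz
    refine Ideal.span_le.2 ?_
    rintro _ ⟨i, rfl⟩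
    simp [hΦ, hΦg]
  let Ψ : P ⧸ J →ₐ[R] A := Ideal.Quotient.liftₐ J Φ hJ
  let L : (ι → R) →ₗ[R] P ⧸ J :=
    Fintype.linearCombination R fun a : ι => Ideal.Quotient.mk J (MvPowerSeries.monomial (expo a) 1)
  have hΨL : ∀ r, Ψ (L r) = ∑ a, r a • M a := by
    intro r
    simp only [L, Fintype.linearCombination_apply, map_sum, map_smul]
    exact Finset.sum_congr rfl fun a _ => by rw [← hΦmon]; rfl
  have hsurjΨL : Function.Surjective (Ψ.toLinearMap ∘ₗ L) := by
    intro a
    obtain ⟨r, hr⟩ := (Submodule.mem_span_range_iff_exists_fun R).1 (hspan trivial : a ∈ _)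
    exact ⟨r, (hΨL r).trans hr⟩
  have : Nontrivial (P ⧸ J) := Ψ.toRingHom.domain_nontrivial
  have hQloc : IsLocalRing (P ⧸ J) := IsLocalRing.of_surjective' (Ideal.Quotient.mk J) Ideal.Quotient.mk_surjective
  have hQh : IsHausdorff (maximalIdeal R) (P ⧸ J) := by
    refine IsHausdorff.map_algebraMap_iff.mp
      (IsHausdorff.of_isLocalRing ((maximalIdeal R).map (algebraMap R (P ⧸ J))) (P ⧸ J) fun htop => ?_)
    have h1 : (maximalIdeal R).map (algebraMap R A) = ⊤ := by
      rw [← Ψ.comp_algebraMap, ← Ideal.map_map, htop, Ideal.map_top]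
    exact (maximalIdeal.isMaximal A).ne_top (top_le_iff.1 (h1 ▸ Ideal.map_le_iff_le_comap.2
      fun r hr hu => hr (isUnit_of_map_unit _ r hu)))
  have hLsurj : Function.Surjective L := by
    let eN := Fintype.equivFin ι
    let L' : (Fin (Fintype.card ι) → R) →ₗ[R] P ⧸ J := L ∘ₗ (LinearEquiv.funCongrLeft R R eN).toLinearMap
    have := Adic.CV.isAdicComplete_piFin (I := maximalIdeal R) (M := R) (Fintype.card ι)
    suffices Function.Surjective L' from fun z => ⟨_, (this z).choose_spec⟩
    refine surjective_of_mkQ_comp_surjective (I := maximalIdeal R) fun z => ?_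
    obtain ⟨z, rfl⟩ := Submodule.Quotient.mk_surjective _ z
    obtain ⟨F, rfl⟩ := Ideal.Quotient.mk_surjective z
    obtain ⟨H, hF⟩ := exists_decomp (fun i => p ^ e i) F
    refine ⟨(LinearEquiv.funCongrLeft R R eN).symm fun a => MvPowerSeries.coeff (expo a) F, ?_⟩
    simp only [LinearMap.comp_apply, Submodule.mkQ_apply, L', LinearEquiv.coe_coe, LinearEquiv.apply_symm_apply]
    rw [Submodule.Quotient.eq]
    have hLF : L (fun a => MvPowerSeries.coeff (expo a) F) = Ideal.Quotient.mk J
        (∑ a : ι, MvPowerSeries.monomial (expo a) (MvPowerSeries.coeff (expo a) F)) := by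
      simp only [L, Fintype.linearCombination_apply, map_sum]
      refine Finset.sum_congr rfl fun a _ => ?_
      rw [← Ideal.Quotient.mkₐ_eq_mk R, ← map_smul, ← map_smul, smul_eq_mul, mul_one]
    conv => arg 2; rw [hLF]; arg 2; rw [hF]
    rw [map_add (Ideal.Quotient.mk J), sub_add_cancel_left, neg_mem_iff, map_sum (Ideal.Quotient.mk J),
      Ideal.smul_top_eq_map]
    refine Submodule.sum_mem _ fun i _ => ?_
    rw [map_mul]
    show _ ∈ Ideal.map (algebraMap R (P ⧸ J)) (maximalIdeal R)
    refine Ideal.mul_mem_right _ _ ?_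
    have h1 : (Ideal.Quotient.mk J) (MvPowerSeries.monomial (Finsupp.single i (p ^ e i)) (1 : R)) =
        -Ideal.Quotient.mk J (↑(g i)) := by
      rw [eq_neg_iff_add_eq_zero, ← map_add, Ideal.Quotient.eq_zero_iff_mem, ← MvPowerSeries.X_pow_eq]
      exact Ideal.subset_span ⟨i, rfl⟩
    rw [h1, neg_mem_iff]
    simp only [g]
    rw [← MvPolynomial.coeToMvPowerSeries.ringHom_apply, map_neg, map_sum, map_neg, map_sum, neg_mem_iff]
    refine Ideal.sum_mem _ fun a _ => ?_
    rw [MvPolynomial.coeToMvPowerSeries.ringHom_apply, MvPolynomial.coe_monomial,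
      show MvPowerSeries.monomial (expo a) (c i a) = algebraMap R P (c i a) * MvPowerSeries.monomial (expo a) 1 by
        rw [← Algebra.smul_def, ← map_smul, smul_eq_mul, mul_one], map_mul]
    exact Ideal.mul_mem_right _ _ (Ideal.mem_map_of_mem (algebraMap R (P ⧸ J)) (hcm i a))
  have hinj : Function.Injective (Ψ.toLinearMap ∘ₗ L) := by
    have hcard : Fintype.card ι = Module.finrank R A := by
      exact hcount
    let eA : A ≃ₗ[R] (ι → R) :=
      ((Module.finBasis R A).reindex (Fintype.equivFinOfCardEq hcard).symm).equivFun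
    have := OrzechProperty.injective_of_surjective_endomorphism (eA.toLinearMap ∘ₗ (Ψ.toLinearMap ∘ₗ L))
      (eA.surjective.comp hsurjΨL)
    exact fun a b h => this (congrArg eA h)
  have hbij : Function.Bijective Ψ :=
    ⟨fun a b h => by
      obtain ⟨u, rfl⟩ := hLsurj a
      obtain ⟨w, rfl⟩ := hLsurj b
      exact congrArg L (hinj h),
    fun a => ⟨L (hsurjΨL a).choose, (hsurjΨL a).choose_spec⟩⟩
  exact ⟨(AlgEquiv.ofBijective Ψ hbij).symm⟩

end Groth.Agent.CartKit.InfStruct
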