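import Groth.Agent.GrpdLib.EquivRel
import Groth.Agent.CartKit.Exact
import Mathlib.RingTheory.HopfAlgebra.Quotient
import Mathlib.RingTheory.HopfAlgebra.Convolution
import Mathlib.RingTheory.TensorProduct.Finite

/-!
# The quotient of an affine group by a finite locally free subgroup

For a Hopf ideal `I` of `A` with `A ⧸ I` finite projective, `A` is finite projective and faithfully
flat over the coinvariants `C`, and `A ⊗_C A = A ⊗ (A ⧸ I)`.
-/

open CategoryTheory TensorProduct WithConv Limits

universe u v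

noncomputable section

set_option backward.isDefEq.respectTransparency false
set_option backward.isDefEq.respectTransparency.types false

namespace Groth.Agent.CartKit.Quot

theorem isPushout_map {R : Type u} [CommRing R] {A B H : Type v} [CommRing A] [CommRing B] [CommRing H]
    [Algebra R A] [Algebra R B] [Algebra R H] (τ : A →ₐ[R] B) :
    IsPushout (CommRingCat.ofHom τ.toRingHom)
      (CommRingCat.ofHom (Algebra.TensorProduct.includeLeft : A →ₐ[R] A ⊗[R] H).toRingHom)
      (CommRingCat.ofHom (Algebra.TensorProduct.includeLeft : B →ₐ[R] B ⊗[R] H).toRingHom)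
      (CommRingCat.ofHom (Algebra.TensorProduct.map τ (AlgHom.id R H)).toRingHom) := by
  refine IsPushout.of_isColimit (PushoutCocone.IsColimit.mk ?_ ?_ ?_ ?_ ?_)
  · refine CommRingCat.hom_ext (RingHom.ext fun a => ?_)
    show τ a ⊗ₜ[R] (1 : H) = Algebra.TensorProduct.map τ (AlgHom.id R H) (a ⊗ₜ[R] 1)
    simp
  · intro s
    letI : Algebra R s.pt := (s.inl.hom.comp (algebraMap R B)).toAlgebra
    let lA : B →ₐ[R] s.pt := { s.inl.hom with commutes' := fun c => rfl }
    have hc : ∀ a : A, s.inl.hom (τ a) = s.inr.hom (a ⊗ₜ[R] (1 : H)) := fun a =>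
      congrArg (fun f => f.hom a) s.condition
    let rH : H →ₐ[R] s.pt :=
      { s.inr.hom.comp (Algebra.TensorProduct.includeRight : H →ₐ[R] A ⊗[R] H).toRingHom with
        commutes' := fun c => by
          show s.inr.hom ((1 : A) ⊗ₜ[R] algebraMap R H c) = s.inl.hom (algebraMap R B c)
          rw [← AlgHom.commutes τ, hc, Algebra.algebraMap_eq_smul_one, Algebra.algebraMap_eq_smul_one,
            TensorProduct.tmul_smul, TensorProduct.smul_tmul'] }
    exact CommRingCat.ofHom (Algebra.TensorProduct.lift lA rH fun _ _ => Commute.all _ _).toRingHom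
  · intro s
    refine CommRingCat.hom_ext (RingHom.ext fun b => ?_)
    show s.inl.hom b * s.inr.hom ((1 : A) ⊗ₜ[R] (1 : H)) = s.inl.hom b
    rw [← Algebra.TensorProduct.one_def, map_one, mul_one]
  · intro s
    refine CommRingCat.hom_ext (RingHom.ext fun z => ?_)
    induction z using TensorProduct.induction_on with
    | zero => simp
    | add x y hx hy => erw [map_add, map_add, hx, hy]
    | tmul a h =>
      have hc : s.inl.hom (τ a) = s.inr.hom (a ⊗ₜ[R] (1 : H)) := congrArg (fun f => f.hom a) s.condition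
      show s.inl.hom (τ a) * s.inr.hom ((1 : A) ⊗ₜ[R] h) = s.inr.hom (a ⊗ₜ[R] h)
      rw [hc, ← map_mul, Algebra.TensorProduct.tmul_mul_tmul, one_mul, mul_one]
  · intro s m h1 h2
    refine CommRingCat.hom_ext (RingHom.ext fun z => ?_)
    induction z using TensorProduct.induction_on with
    | zero => simp
    | add x y hx hy => erw [map_add, map_add, hx, hy]
    | tmul b h =>
      show m.hom (b ⊗ₜ[R] h) = s.inl.hom b * s.inr.hom ((1 : A) ⊗ₜ[R] h)
      rw [← h1, ← h2]
      show m.hom (b ⊗ₜ[R] h) = m.hom (b ⊗ₜ[R] (1 : H)) * m.hom (τ 1 ⊗ₜ[R] h)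
      rw [← map_mul, Algebra.TensorProduct.tmul_mul_tmul, map_one, mul_one, one_mul]

variable {R : Type u} [CommRing R]

section Shear

variable (H : Type v) [CommRing H] [HopfAlgebra R H]

/-- `u ⊗ v ↦ (u ⊗ 1) · Δ v`. -/
def shear : H ⊗[R] H →ₐ[R] H ⊗[R] H :=
  Algebra.TensorProduct.lift Algebra.TensorProduct.includeLeft (Bialgebra.comulAlgHom R H)
    fun _ _ => Commute.all _ _

/-- The inverse of `shear`. -/
def unshear : H ⊗[R] H →ₐ[R] H ⊗[R] H :=
  Algebra.TensorProduct.lift Algebra.TensorProduct.includeLeft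
    (toConv ((Algebra.TensorProduct.includeLeft : H →ₐ[R] H ⊗[R] H).comp (HopfAlgebra.antipodeAlgHom R H)) *
      toConv (Algebra.TensorProduct.includeRight : H →ₐ[R] H ⊗[R] H)).ofConv
    fun _ _ => Commute.all _ _

variable {H}

theorem comulAlgHom_eq {A : Type v} [CommRing A] [Bialgebra R A] :
    toConv (Bialgebra.comulAlgHom R A) =
      toConv (Algebra.TensorProduct.includeLeft : A →ₐ[R] A ⊗[R] A) *
        toConv (Algebra.TensorProduct.includeRight : A →ₐ[R] A ⊗[R] A) := by
  refine WithConv.ofConv_injective (AlgHom.ext fun a => ?_)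
  show Coalgebra.comul (R := R) a = (toConv (Algebra.TensorProduct.includeLeft : A →ₐ[R] A ⊗[R] A) *
        toConv (Algebra.TensorProduct.includeRight : A →ₐ[R] A ⊗[R] A)) a
  rw [AlgHom.convMul_apply]
  generalize Coalgebra.comul (R := R) a = t
  induction t using TensorProduct.induction_on with
  | zero => simp
  | add x y hx hy => simp only [map_add, ← hx, ← hy]
  | tmul x y => simp

theorem conv_antipode {T : Type v} [CommRing T] [Algebra R T] (f : H →ₐ[R] T) :
    toConv f * toConv (f.comp (HopfAlgebra.antipodeAlgHom R H)) = 1 ∧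
      toConv (f.comp (HopfAlgebra.antipodeAlgHom R H)) * toConv f = 1 := by
  have one : toConv (f.comp (1 : WithConv (H →ₐ[R] H)).ofConv) = 1 := by
    apply WithConv.ofConv_injective
    ext x
    simp [AlgHom.convOne_def]
  constructor
  · have := congrArg (fun g : WithConv (H →ₐ[R] H) => toConv (f.comp g.ofConv))
      (mul_inv_cancel (toConv (AlgHom.id R H)))
    rw [one] at this
    simp only [AlgHom.comp_convMul_distrib, toConv_ofConv] at this
    exact this
  · have := congrArg (fun g : WithConv (H →ₐ[R] H) => toConv (f.comp g.ofConv))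
      (inv_mul_cancel (toConv (AlgHom.id R H)))
    rw [one] at this
    simp only [AlgHom.comp_convMul_distrib, toConv_ofConv] at this
    exact this

variable (H)

theorem shear_inverse : (shear (R := R) H).comp (unshear H) = AlgHom.id R (H ⊗[R] H) ∧
    (unshear (R := R) H).comp (shear H) = AlgHom.id R (H ⊗[R] H) := by
  let l : H →ₐ[R] H ⊗[R] H := Algebra.TensorProduct.includeLeft
  let r : H →ₐ[R] H ⊗[R] H := Algebra.TensorProduct.includeRight
  let lS := l.comp (HopfAlgebra.antipodeAlgHom R H)
  have h1 : (shear H).comp (unshear H) = AlgHom.id R (H ⊗[R] H) := by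
    refine Algebra.TensorProduct.ext (AlgHom.ext fun x => ?_) (AlgHom.ext fun x => ?_)
    · simp [shear, unshear]
    · show (shear H) (unshear H (1 ⊗ₜ x)) = (1 : H) ⊗ₜ[R] x
      have e : (shear H).comp (toConv lS * toConv r).ofConv = r := by
        refine WithConv.toConv_injective ?_
        rw [AlgHom.comp_convMul_distrib]
        simp only [toConv_ofConv]
        rw [show (shear H).comp lS = lS from AlgHom.ext fun y => by simp [shear, lS, l],
          show (shear H).comp r = Bialgebra.comulAlgHom R H from AlgHom.ext fun y => by simp [shear, r],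
          comulAlgHom_eq, ← mul_assoc, (conv_antipode l).2, one_mul]
      rw [show unshear H ((1 : H) ⊗ₜ[R] x) = (toConv lS * toConv r).ofConv x by simp [unshear, lS, l, r, ← Algebra.TensorProduct.one_def]]
      exact AlgHom.congr_fun e x
  have h2 : (unshear H).comp (shear H) = AlgHom.id R (H ⊗[R] H) := by
    refine Algebra.TensorProduct.ext (AlgHom.ext fun x => ?_) (AlgHom.ext fun x => ?_)
    · simp [shear, unshear]
    · show unshear H (shear H (1 ⊗ₜ x)) = (1 : H) ⊗ₜ[R] x
      have e : (unshear H).comp (toConv l * toConv r).ofConv = r := by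
        refine WithConv.toConv_injective ?_
        rw [AlgHom.comp_convMul_distrib]
        simp only [toConv_ofConv]
        rw [show (unshear H).comp l = l from AlgHom.ext fun y => by simp [unshear, l],
          show toConv ((unshear H).comp r) = toConv lS * toConv r from
            WithConv.ofConv_injective (AlgHom.ext fun y => by simp [unshear, lS, l, r]),
          ← mul_assoc, (conv_antipode l).1, one_mul]
      rw [show shear H ((1 : H) ⊗ₜ[R] x) = (toConv l * toConv r).ofConv x by
        rw [← comulAlgHom_eq]; simp [shear, ← Algebra.TensorProduct.one_def]]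
      exact AlgHom.congr_fun e x
  exact ⟨h1, h2⟩

theorem unshear_shear (x : H ⊗[R] H) : unshear H (shear (R := R) H x) = x := by
  obtain ⟨h1, h2⟩ := shear_inverse (R := R) H
  exact AlgHom.congr_fun h2 x

theorem shear_bijective : Function.Bijective (shear (R := R) H) := by
  obtain ⟨h1, h2⟩ := shear_inverse (R := R) H
  exact ⟨fun x y h => by simpa using (AlgHom.congr_fun h2 x).symm.trans ((congrArg (unshear H) h).trans (AlgHom.congr_fun h2 y)),
    fun y => ⟨unshear H y, AlgHom.congr_fun h1 y⟩⟩

end Shear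

variable {A : Type v} [CommRing A] [HopfAlgebra R A] (I : Ideal A) [I.IsHopfIdeal R]

/-- Right translation by the subgroup. -/
def delta : A →ₐ[R] A ⊗[R] (A ⧸ I) :=
  (Algebra.TensorProduct.map (AlgHom.id R A) (Ideal.Quotient.mkₐ R I)).comp (Bialgebra.comulAlgHom R A)

/-- The coinvariants. -/
abbrev coinv : Subalgebra R A :=
  AlgHom.equalizer (delta (R := R) I) (Algebra.TensorProduct.includeLeft : A →ₐ[R] A ⊗[R] (A ⧸ I))

theorem delta_eq : toConv (delta (R := R) I) =
    toConv (Algebra.TensorProduct.includeLeft : A →ₐ[R] A ⊗[R] (A ⧸ I)) *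
      toConv ((Algebra.TensorProduct.includeRight : (A ⧸ I) →ₐ[R] A ⊗[R] (A ⧸ I)).comp (Ideal.Quotient.mkₐ R I)) := by
  show toConv ((Algebra.TensorProduct.map (AlgHom.id R A) (Ideal.Quotient.mkₐ R I)).comp
    (toConv (Bialgebra.comulAlgHom R A)).ofConv) = _
  rw [comulAlgHom_eq, AlgHom.comp_convMul_distrib]
  simp only [toConv_ofConv]
  congr 1

/-- The composition of two arrows. -/
def gamma : A ⊗[R] (A ⧸ I) →ₐ[R] (A ⊗[R] (A ⧸ I)) ⊗[R] (A ⧸ I) :=
  (Algebra.TensorProduct.assoc R R R A (A ⧸ I) (A ⧸ I)).symm.toAlgHom.comp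
    (Algebra.TensorProduct.map (AlgHom.id R A) (Bialgebra.comulAlgHom R (A ⧸ I)))

theorem tau_gamma : (gamma (R := R) I).comp (delta (R := R) I) =
    (Algebra.TensorProduct.map (delta (R := R) I) (AlgHom.id R (A ⧸ I))).comp (delta (R := R) I) := by
  let π : A →ₐ[R] A ⧸ I := Ideal.Quotient.mkₐ R I
  let m : A ⊗[R] A →ₐ[R] A ⊗[R] (A ⧸ I) := Algebra.TensorProduct.map (AlgHom.id R A) π
  have hπ : ∀ y : A, Coalgebra.comul (R := R) (π y) =
      Algebra.TensorProduct.map π π (Coalgebra.comul (R := R) y) := fun y =>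
    (CoalgHomClass.map_comp_comul_apply (Bialgebra.Quotient.mkBialgHom (R := R) I) y).symm
  have h1 : ∀ t : A ⊗[R] A, gamma (R := R) I (m t) = TensorProduct.map m.toLinearMap π.toLinearMap
      ((TensorProduct.assoc R A A A).symm ((Coalgebra.comul (R := R)).lTensor A t)) := by
    intro t
    induction t using TensorProduct.induction_on with
    | zero => simp
    | add x y hx hy => simp only [map_add, hx, hy]
    | tmul x y =>
      simp only [gamma, m, AlgHom.comp_apply, Algebra.TensorProduct.map_tmul, AlgHom.id_apply,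
        Bialgebra.comulAlgHom_apply, hπ, LinearMap.lTensor_tmul]
      generalize Coalgebra.comul (R := R) y = s
      induction s using TensorProduct.induction_on with
      | zero => simp
      | add u v hu hv => simp only [map_add, TensorProduct.tmul_add, hu, hv]
      | tmul u v => simp
  have h2 : ∀ t : A ⊗[R] A, Algebra.TensorProduct.map (delta (R := R) I) (AlgHom.id R (A ⧸ I)) (m t) =
      TensorProduct.map m.toLinearMap π.toLinearMap ((Coalgebra.comul (R := R)).rTensor A t) := by
    intro t
    induction t using TensorProduct.induction_on with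
    | zero => simp
    | add x y hx hy => simp only [map_add, hx, hy]
    | tmul x y => simp [delta, m, π]; rfl
  refine AlgHom.ext fun a => ?_
  show gamma (R := R) I (m (Coalgebra.comul (R := R) a)) =
    Algebra.TensorProduct.map (delta (R := R) I) (AlgHom.id R (A ⧸ I)) (m (Coalgebra.comul (R := R) a))
  rw [h1, h2, Coalgebra.coassoc_symm_apply]

variable [Module.Finite R (A ⧸ I)] [Module.Projective R (A ⧸ I)]

/-- The groupoid of right translations by the subgroup. -/
def grpd : GrpdLib.RingGrpd.{v} where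
  A := CommRingCat.of A
  B := CommRingCat.of (A ⊗[R] (A ⧸ I))
  B₂ := CommRingCat.of ((A ⊗[R] (A ⧸ I)) ⊗[R] (A ⧸ I))
  σ := CommRingCat.ofHom (Algebra.TensorProduct.includeLeft : A →ₐ[R] A ⊗[R] (A ⧸ I)).toRingHom
  τ := CommRingCat.ofHom (delta (R := R) I).toRingHom
  ε := CommRingCat.ofHom ((Algebra.TensorProduct.rid R R A).toAlgHom.comp
    (Algebra.TensorProduct.map (AlgHom.id R A) (Bialgebra.counitAlgHom R (A ⧸ I)))).toRingHom
  π₁ := CommRingCat.ofHom (Algebra.TensorProduct.map (delta (R := R) I) (AlgHom.id R (A ⧸ I))).toRingHom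
  π₂ := CommRingCat.ofHom (Algebra.TensorProduct.includeLeft :
    A ⊗[R] (A ⧸ I) →ₐ[R] (A ⊗[R] (A ⧸ I)) ⊗[R] (A ⧸ I)).toRingHom
  γ := CommRingCat.ofHom (gamma (R := R) I).toRingHom
  hfst := isPushout_map (delta (R := R) I)
  hcomp := by
    let l : A →ₐ[R] A ⊗[R] (A ⧸ I) := Algebra.TensorProduct.includeLeft
    let e := AlgEquiv.ofBijective (shear (R := R) (A ⧸ I)) (shear_bijective (A ⧸ I))
    let Ψ : (A ⊗[R] (A ⧸ I)) ⊗[R] (A ⧸ I) ≃ₐ[R] (A ⊗[R] (A ⧸ I)) ⊗[R] (A ⧸ I) :=
      (Algebra.TensorProduct.assoc R R R A (A ⧸ I) (A ⧸ I)).trans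
        ((Algebra.TensorProduct.congr AlgEquiv.refl e).trans
          (Algebra.TensorProduct.assoc R R R A (A ⧸ I) (A ⧸ I)).symm)
    refine (isPushout_map (H := A ⧸ I) l).of_iso (Iso.refl _) (Iso.refl _) (Iso.refl _)
      Ψ.toRingEquiv.toCommRingCatIso ?_ ?_ ?_ ?_
    · simp; rfl
    · simp
    · refine CommRingCat.hom_ext (RingHom.ext fun z => ?_)
      show Ψ (z ⊗ₜ[R] 1) = z ⊗ₜ[R] (1 : A ⧸ I)
      induction z using TensorProduct.induction_on with
      | zero => simp
      | add x y hx hy => rw [TensorProduct.add_tmul, map_add, hx, hy]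
      | tmul a h => simp [Ψ, e, shear]
    · refine CommRingCat.hom_ext (RingHom.ext fun z => ?_)
      show Ψ (Algebra.TensorProduct.map l (AlgHom.id R (A ⧸ I)) z) = gamma I z
      induction z using TensorProduct.induction_on with
      | zero => simp
      | add x y hx hy => simp only [map_add, hx, hy]
      | tmul a h => simp [Ψ, e, shear, gamma, l, ← Algebra.TensorProduct.one_def]
  σ_ε := by
    refine CommRingCat.hom_ext (RingHom.ext fun a => ?_)
    show (Algebra.TensorProduct.rid R R A) (Algebra.TensorProduct.map (AlgHom.id R A)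
      (Bialgebra.counitAlgHom R (A ⧸ I)) (a ⊗ₜ 1)) = a
    simp
  τ_ε := by
    refine CommRingCat.hom_ext (RingHom.ext fun a => ?_)
    show (Algebra.TensorProduct.rid R R A) (Algebra.TensorProduct.map (AlgHom.id R A)
      (Bialgebra.counitAlgHom R (A ⧸ I)) (Algebra.TensorProduct.map (AlgHom.id R A) (Ideal.Quotient.mkₐ R I)
        (Coalgebra.comul (R := R) a))) = a
    have h : ∀ t : A ⊗[R] A, (Algebra.TensorProduct.rid R R A) (Algebra.TensorProduct.map (AlgHom.id R A)
        (Bialgebra.counitAlgHom R (A ⧸ I)) (Algebra.TensorProduct.map (AlgHom.id R A) (Ideal.Quotient.mkₐ R I) t)) =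
        TensorProduct.rid R A ((Coalgebra.counit (R := R)).lTensor A t) := by
      intro t
      induction t using TensorProduct.induction_on with
      | zero => simp
      | add x y hx hy => simp only [map_add, hx, hy]
      | tmul x y => simp
    rw [h, Coalgebra.lTensor_counit_comul, TensorProduct.rid_tmul, one_smul]
  τ_γ := CommRingCat.hom_ext (congrArg AlgHom.toRingHom (tau_gamma (R := R) I))
  pres := by
    obtain ⟨n, f, g, -, -, hfg⟩ := Module.Finite.exists_comp_eq_id_of_projective A (A ⊗[R] (A ⧸ I))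
    refine ⟨⟨n, fun j => f (Pi.single j 1), g.toAddMonoidHom, fun a b => ?_, fun b => ?_⟩⟩
    · show g ((a ⊗ₜ[R] (1 : A ⧸ I)) * b) = a • g b
      refine Eq.trans (congrArg g ?_) (map_smul g a b)
      exact (Algebra.smul_def a b).symm
    · have hb : f (g b) = b := DFunLike.congr_fun hfg b
      conv_rhs => rw [← hb, pi_eq_sum_univ' (g b), map_sum]
      refine Finset.sum_congr rfl fun x _ => ?_
      refine Eq.trans ?_ (map_smul f _ _).symm
      exact (Algebra.smul_def _ _).symm

theorem grpd_gen : (grpd (R := R) I).Gen := by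
  let il : A →ₐ[R] A ⊗[R] (A ⧸ I) := Algebra.TensorProduct.includeLeft
  let ir : A ⧸ I →ₐ[R] A ⊗[R] (A ⧸ I) := Algebra.TensorProduct.includeRight
  let lS := il.comp (HopfAlgebra.antipodeAlgHom R A)
  have key : toConv (ir.comp (Ideal.Quotient.mkₐ R I)) = toConv lS * toConv (delta (R := R) I) := by
    refine (((congrArg (toConv lS * ·) (delta_eq (R := R) I)).trans
      (mul_assoc (toConv lS) (toConv il) (toConv (ir.comp (Ideal.Quotient.mkₐ R I)))).symm).trans ?_).symm
    exact ((congrArg (· * toConv (ir.comp (Ideal.Quotient.mkₐ R I))) (conv_antipode il).2).trans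
      (one_mul (toConv (ir.comp (Ideal.Quotient.mkₐ R I)))))
  have hr : ∀ a b : A, (il a : A ⊗[R] (A ⧸ I)) * delta (R := R) I b ∈ Set.range (grpd (R := R) I).θ := fun a b =>
    ⟨a ⊗ₜ b, (grpd (R := R) I).θ_tmul a b⟩
  intro z
  show z ∈ Set.range (grpd (R := R) I).θ
  induction z using TensorProduct.induction_on with
  | zero => exact ⟨0, map_zero _⟩
  | add x y hx hy =>
    obtain ⟨u, rfl⟩ := hx
    obtain ⟨v, rfl⟩ := hy
    exact ⟨u + v, map_add _ _ _⟩
  | tmul a h =>
    obtain ⟨b, rfl⟩ := Ideal.Quotient.mk_surjective h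
    have e := congrArg (fun f : WithConv (A →ₐ[R] A ⊗[R] (A ⧸ I)) => f b) key
    rw [AlgHom.convMul_apply] at e
    have e' : a ⊗ₜ[R] (Ideal.Quotient.mk I b) = il a * (Algebra.TensorProduct.lift lS (delta (R := R) I)
        (fun _ _ => Commute.all _ _) (Coalgebra.comul (R := R) b)) := by
      refine Eq.trans ?_ (congrArg (il a * ·) e)
      show _ = il a * ((1 : A) ⊗ₜ[R] Ideal.Quotient.mk I b)
      simp [il]
    rw [e']
    generalize Coalgebra.comul (R := R) b = t
    induction t using TensorProduct.induction_on with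
    | zero => exact ⟨0, by simp⟩
    | add x y hx hy =>
      obtain ⟨u, hu⟩ := hx
      obtain ⟨v, hv⟩ := hy
      exact ⟨u + v, by rw [map_add, map_add, mul_add, hu, hv]⟩
    | tmul x y =>
      rw [Algebra.TensorProduct.lift_tmul, ← mul_assoc, show il a * lS x = il (a * HopfAlgebra.antipodeAlgHom R A x) from (map_mul il _ _).symm]
      exact hr _ _

theorem coinv_eq : (coinv (R := R) I).toSubring = (grpd (R := R) I).invariants :=
  Subring.ext fun x => ⟨fun h => h.symm, fun h => h.symm⟩

/-- `A` is finite projective and faithfully flat over the coinvariants, and `A ⊗_C A = A ⊗ (A ⧸ I)`. -/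
theorem main : Module.Finite (coinv (R := R) I) A ∧ Module.Projective (coinv (R := R) I) A ∧
    Module.FaithfullyFlat (coinv (R := R) I) A ∧
    ∃ φ : A ⊗[coinv (R := R) I] A ≃ₗ[A] A ⊗[R] (A ⧸ I),
      ∀ a b, φ (a ⊗ₜ b) = (a ⊗ₜ[R] (1 : A ⧸ I)) * delta (R := R) I b := by
  let D := grpd (R := R) I
  have hgen : D.Gen := grpd_gen I
  let P : Subring A → Prop := fun S => Module.Finite S A ∧ Module.Projective S A ∧
    Module.FaithfullyFlat S A ∧
    ∃ φ : A ⊗[S] A ≃ₗ[A] A ⊗[R] (A ⧸ I),
      ∀ a b, φ (a ⊗ₜ b) = (a ⊗ₜ[R] (1 : A ⧸ I)) * delta (R := R) I b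
  have h : P D.invariants := by
    refine ⟨GrpdLib.RingGrpd.finite_invariants hgen, GrpdLib.RingGrpd.projective_invariants hgen,
      GrpdLib.RingGrpd.faithfullyFlat_invariants hgen, ?_⟩
    refine ⟨{ Equiv.ofBijective D.θ (GrpdLib.RingGrpd.bijective_θ hgen) with
      map_add' := map_add D.θ
      map_smul' := fun (c : A) w => ?_ }, fun a b => D.θ_tmul a b⟩
    show D.θ (c • w) = c • (show A ⊗[R] (A ⧸ I) from D.θ w)
    have e1 : D.θ ((c ⊗ₜ (1 : A)) * w) = D.θ (c ⊗ₜ (1 : A)) * D.θ w := map_mul _ _ _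
    refine Eq.trans (Eq.trans (congrArg D.θ ?_) e1)
      (Eq.trans (congrArg (· * D.θ w) (a₂ := D.σ c) ?_) ?_)
    · exact Algebra.smul_def c w
    · exact (D.θ_tmul c (1 : A)).trans ((congrArg _ (map_one D.τ.hom)).trans (mul_one _))
    exact (Algebra.smul_def c (show A ⊗[R] (A ⧸ I) from D.θ w)).symm
  exact ((coinv_eq (R := R) I).symm ▸ h : P (coinv (R := R) I).toSubring)

omit [Module.Finite R (A ⧸ I)] [Module.Projective R (A ⧸ I)] in
theorem sub_mem_ideal {c : A} (hc : c ∈ coinv (R := R) I) :
    c - algebraMap R A (Coalgebra.counit (R := R) c) ∈ I := by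
  have h := congrArg (fun z => TensorProduct.lid R (A ⧸ I) ((Coalgebra.counit (R := R)).rTensor (A ⧸ I) z))
    (hc : delta (R := R) I c = c ⊗ₜ[R] (1 : A ⧸ I))
  have h2 : ∀ t : A ⊗[R] A, TensorProduct.lid R (A ⧸ I) ((Coalgebra.counit (R := R)).rTensor (A ⧸ I)
      (Algebra.TensorProduct.map (AlgHom.id R A) (Ideal.Quotient.mkₐ R I) t)) =
      Ideal.Quotient.mk I (TensorProduct.lid R A ((Coalgebra.counit (R := R)).rTensor A t)) := by
    intro t
    induction t using TensorProduct.induction_on with
    | zero => simp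
    | add x y hx hy => simp only [map_add, hx, hy]
    | tmul x y => simp [Algebra.smul_def]
  have h3 : delta (R := R) I c = Algebra.TensorProduct.map (AlgHom.id R A) (Ideal.Quotient.mkₐ R I)
      (Coalgebra.comul (R := R) c) := rfl
  simp only [h3, h2, Coalgebra.rTensor_counit_comul, TensorProduct.lid_tmul, one_smul] at h
  rw [← Ideal.Quotient.eq, h]
  simp [Algebra.smul_def]

/-- The augmentation ideal of the coinvariants generates the ideal of the subgroup. -/
theorem augIdeal_eq : Ideal.span ((coinv (R := R) I : Set A) ∩ RingHom.ker (Bialgebra.counitAlgHom R A)) = I := by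
  let J := Ideal.span ((coinv (R := R) I : Set A) ∩ RingHom.ker (Bialgebra.counitAlgHom R A))
  refine le_antisymm (Ideal.span_le.2 fun c hc => ?_) fun b hb => ?_
  · have hε : Coalgebra.counit (R := R) c = 0 := hc.2
    simpa [hε] using sub_mem_ideal I hc.1
  obtain ⟨-, -, -, φ, hφ⟩ := main (R := R) I
  let C := coinv (R := R) I
  let e₀ : A →ₐ[R] A ⧸ J := (Algebra.ofId R (A ⧸ J)).comp (Bialgebra.counitAlgHom R A)
  let eC : A →ₐ[C] A ⧸ J :=
    { e₀ with
      commutes' := fun c => by
        show algebraMap R (A ⧸ J) (Coalgebra.counit (R := R) (c : A)) = Ideal.Quotient.mk J (c : A)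
        rw [IsScalarTower.algebraMap_apply R A (A ⧸ J), Ideal.Quotient.algebraMap_eq, eq_comm, Ideal.Quotient.eq]
        refine Ideal.subset_span ⟨sub_mem c.2 ((coinv (R := R) I).algebraMap_mem _), ?_⟩
        show Bialgebra.counitAlgHom R A (_ - _) = 0
        rw [map_sub, AlgHom.commutes]
        simp }
  let Φ : A ⊗[C] A →ₐ[C] A ⧸ J := Algebra.TensorProduct.lift eC (Ideal.Quotient.mkₐ C J) fun _ _ => Commute.all _ _
  have hmul : ∀ x y, φ (x * y) = φ x * φ y := by
    intro x y
    induction x using TensorProduct.induction_on with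
    | zero => simp
    | add x x' hx hx' => simp only [add_mul, map_add, hx, hx']
    | tmul a a' =>
      induction y using TensorProduct.induction_on with
      | zero => simp
      | add y y' hy hy' => simp only [mul_add, map_add, hy, hy']
      | tmul b b' =>
        rw [Algebra.TensorProduct.tmul_mul_tmul, hφ, hφ, hφ, map_mul, mul_mul_mul_comm,
          Algebra.TensorProduct.tmul_mul_tmul, one_mul]
  have h1 : φ 1 = 1 := by rw [Algebra.TensorProduct.one_def, hφ, map_one, mul_one]; rfl
  have hsl : ∀ r : R, φ.symm (algebraMap R (A ⊗[R] (A ⧸ I)) r) = (algebraMap R A r) ⊗ₜ[C] (1 : A) := by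
    intro r
    apply φ.injective
    rw [φ.apply_symm_apply, hφ, map_one, mul_one, Algebra.TensorProduct.algebraMap_apply]
  let Ψ : A ⊗[R] (A ⧸ I) →ₐ[R] A ⧸ J :=
    { toFun := fun z => Φ (φ.symm z)
      map_one' := by rw [← h1, φ.symm_apply_apply, map_one]
      map_mul' := fun x y => by
        have : φ.symm (x * y) = φ.symm x * φ.symm y := φ.injective (by simp [hmul])
        rw [this, map_mul]
      map_zero' := by simp
      map_add' := fun x y => by simp [map_add]
      commutes' := fun r => by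
        show Φ (φ.symm _) = _
        rw [hsl, Algebra.TensorProduct.lift_tmul, map_one, mul_one]
        show algebraMap R (A ⧸ J) (Bialgebra.counitAlgHom R A (algebraMap R A r)) = _
        simp }
  have hΨl : ∀ a : A, Ψ (a ⊗ₜ[R] (1 : A ⧸ I)) = e₀ a := by
    intro a
    show Φ (φ.symm _) = _
    rw [show φ.symm (a ⊗ₜ[R] (1 : A ⧸ I)) = a ⊗ₜ[C] (1 : A) from φ.injective (by
      rw [φ.apply_symm_apply, hφ, map_one, mul_one]),
      Algebra.TensorProduct.lift_tmul, map_one, mul_one]
    rfl
  have hΨd : Ψ (delta (R := R) I b) = Ideal.Quotient.mk J b := by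
    show Φ (φ.symm _) = _
    rw [show φ.symm (delta (R := R) I b) = (1 : A) ⊗ₜ[C] b from φ.injective (by
      rw [φ.apply_symm_apply, hφ, show (1 : A) ⊗ₜ[R] (1 : A ⧸ I) = 1 from rfl, one_mul]),
      Algebra.TensorProduct.lift_tmul, map_one, one_mul]
    rfl
  let h' : A ⧸ I →ₐ[R] A ⧸ J := Ψ.comp Algebra.TensorProduct.includeRight
  have h2 : ∀ t : A ⊗[R] A, Ψ (Algebra.TensorProduct.map (AlgHom.id R A) (Ideal.Quotient.mkₐ R I) t) =
      h' (Ideal.Quotient.mk I (TensorProduct.lid R A ((Coalgebra.counit (R := R)).rTensor A t))) := by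
    intro t
    induction t using TensorProduct.induction_on with
    | zero => simp
    | add x y hx hy => simp only [map_add, hx, hy]
    | tmul x y =>
      rw [Algebra.TensorProduct.map_tmul, LinearMap.rTensor_tmul, TensorProduct.lid_tmul,
        ← Ideal.Quotient.mkₐ_eq_mk R, map_smul, map_smul, AlgHom.id_apply,
        show x ⊗ₜ[R] Ideal.Quotient.mkₐ R I y = x ⊗ₜ[R] (1 : A ⧸ I) * ((1 : A) ⊗ₜ[R] Ideal.Quotient.mkₐ R I y) by simp,
        map_mul, hΨl, Algebra.smul_def]
      rfl
  show b ∈ J
  rw [← Ideal.Quotient.eq_zero_iff_mem, ← hΨd]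
  show Ψ (Algebra.TensorProduct.map (AlgHom.id R A) (Ideal.Quotient.mkₐ R I) (Coalgebra.comul (R := R) b)) = 0
  rw [h2, Coalgebra.rTensor_counit_comul, TensorProduct.lid_tmul, one_smul,
    Ideal.Quotient.eq_zero_iff_mem.2 hb, map_zero]

end Groth.Agent.CartKit.Quot
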