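import Groth.Agent.CartKit.QuotRank
import Groth.Agent.CartKit.Conn
import Groth.Agent.Comod.Matrix
import Mathlib.RingTheory.Unramified.Finite
import Mathlib.RingTheory.Etale.Basic
import Mathlib.RingTheory.TensorProduct.Free
import Mathlib.Algebra.TrivSqZeroExt.Basic

/-!
# The quotient by a connected subgroup with idempotent ideal is étale
-/

open TensorProduct WithConv

universe u v

noncomputable section

namespace Groth.Agent.CartKit.Quot

variable {R : Type u} [CommRing R] {A : Type v} [CommRing A] [HopfAlgebra R A] (I : Ideal A) [I.IsHopfIdeal R]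

/-- The coinvariants form a left coideal. -/
theorem comul_mem_lTensor [Module.Flat R A] {b : A} (hb : b ∈ coinv (R := R) I) :
    Coalgebra.comul (R := R) b ∈ LinearMap.range ((coinv (R := R) I).val.toLinearMap.lTensor A) := by
  let il : A →ₐ[R] A ⊗[R] (A ⧸ I) := Algebra.TensorProduct.includeLeft
  let dd : A →ₗ[R] A ⊗[R] (A ⧸ I) := (delta (R := R) I).toLinearMap - il.toLinearMap
  have hex : Function.Exact (coinv (R := R) I).val.toLinearMap dd := by
    intro y
    constructor
    · intro hy
      exact ⟨⟨y, sub_eq_zero.1 hy⟩, rfl⟩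
    · rintro ⟨c, rfl⟩
      exact sub_eq_zero.2 c.2
  refine ((Module.Flat.lTensor_exact A hex) _).1 ?_
  let π : A →ₗ[R] A ⧸ I := (Ideal.Quotient.mkₐ R I).toLinearMap
  let m : A ⊗[R] A →ₗ[R] A ⊗[R] (A ⧸ I) := π.lTensor A
  have hd : ∀ y : A, delta (R := R) I y = m (Coalgebra.comul (R := R) y) := by
    intro y
    show Algebra.TensorProduct.map (AlgHom.id R A) (Ideal.Quotient.mkₐ R I) (Coalgebra.comul (R := R) y) = _
    generalize Coalgebra.comul (R := R) y = t
    induction t using TensorProduct.induction_on with
    | zero => simp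
    | add x y hx hy => simp only [map_add, hx, hy]
    | tmul x y => simp [m, π]
  have h1 : ∀ t : A ⊗[R] A, (delta (R := R) I).toLinearMap.lTensor A t =
      TensorProduct.assoc R A A (A ⧸ I) (π.lTensor (A ⊗[R] A)
        ((TensorProduct.assoc R A A A).symm ((Coalgebra.comul (R := R)).lTensor A t))) := by
    intro t
    induction t using TensorProduct.induction_on with
    | zero => simp
    | add x y hx hy => simp only [map_add, hx, hy]
    | tmul x y =>
      rw [LinearMap.lTensor_tmul, LinearMap.lTensor_tmul, AlgHom.toLinearMap_apply, hd]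
      generalize Coalgebra.comul (R := R) y = s
      induction s using TensorProduct.induction_on with
      | zero => simp
      | add u w hu hw => simp only [map_add, TensorProduct.tmul_add, hu, hw]
      | tmul u w => simp [m]
  have h2 : ∀ t : A ⊗[R] A, π.lTensor (A ⊗[R] A) ((Coalgebra.comul (R := R)).rTensor A t) =
      (Coalgebra.comul (R := R)).rTensor (A ⧸ I) (m t) := by
    intro t
    induction t using TensorProduct.induction_on with
    | zero => simp
    | add x y hx hy => simp only [map_add, hx, hy]
    | tmul x y => simp [m]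
  have hbm : m (Coalgebra.comul (R := R) b) = b ⊗ₜ[R] (1 : A ⧸ I) := (hd b).symm.trans hb
  rw [LinearMap.lTensor_sub, LinearMap.sub_apply, h1, Coalgebra.coassoc_symm_apply, h2, hbm,
    LinearMap.rTensor_tmul, sub_eq_zero]
  generalize Coalgebra.comul (R := R) b = t
  induction t using TensorProduct.induction_on with
  | zero => simp
  | add x y hx hy => simp only [map_add, TensorProduct.add_tmul, hx, hy]
  | tmul x y => simp [il]

theorem lTensor_val_injective [Module.Flat R A] :
    Function.Injective (Algebra.TensorProduct.map (AlgHom.id R A) (coinv (R := R) I).val) :=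
  Module.Flat.lTensor_preserves_injective_linearMap (M := A) (coinv (R := R) I).val.toLinearMap
    Subtype.val_injective

theorem mem_range_comul [Module.Flat R A] (b : coinv (R := R) I) :
    (Bialgebra.comulAlgHom R A).comp (coinv (R := R) I).val b ∈
      (Algebra.TensorProduct.map (AlgHom.id R A) (coinv (R := R) I).val).range :=
  (AlgHom.mem_range _).2 (comul_mem_lTensor I b.2)

/-- The left coaction on the coinvariants. -/
def coactL [Module.Flat R A] : coinv (R := R) I →ₐ[R] A ⊗[R] coinv (R := R) I :=
  (AlgEquiv.ofInjective _ (lTensor_val_injective I)).symm.toAlgHom.comp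
    (AlgHom.codRestrict _ _ (mem_range_comul I))

theorem map_coactL [Module.Flat R A] (b : coinv (R := R) I) :
    Algebra.TensorProduct.map (AlgHom.id R A) (coinv (R := R) I).val (coactL (R := R) I b) =
      Coalgebra.comul (R := R) (b : A) :=
  congrArg Subtype.val ((AlgEquiv.ofInjective _ (lTensor_val_injective I)).apply_symm_apply
    (AlgHom.codRestrict _ _ (mem_range_comul I) b))

/-- The counit of the coinvariants. -/
def counitC : coinv (R := R) I →ₐ[R] R := (Bialgebra.counitAlgHom R A).comp (coinv (R := R) I).val

variable [Module.Finite R A] [Module.Projective R A] [Module.Finite R (A ⧸ I)] [Module.Projective R (A ⧸ I)]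

theorem ker_counitC_sq (hI : I * I = I) :
    RingHom.ker (counitC (R := R) I) * RingHom.ker (counitC (R := R) I) = RingHom.ker (counitC (R := R) I) := by
  obtain ⟨-, -, hff, -⟩ := main (R := R) I
  let C := coinv (R := R) I
  let K : Ideal C := RingHom.ker (counitC (R := R) I)
  have hK : K.map (algebraMap C A) = I := by
    refine Eq.trans ?_ (augIdeal_eq (R := R) I)
    rw [Ideal.map]
    congr 1
    ext a
    constructor
    · rintro ⟨c, hc, rfl⟩
      exact ⟨c.2, hc⟩
    · rintro ⟨h1, h2⟩
      exact ⟨⟨a, h1⟩, h2, rfl⟩
  refine le_antisymm Ideal.mul_le_left ?_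
  rw [← Ideal.comap_map_eq_self_of_faithfullyFlat (B := A) (K * K), Ideal.map_mul, hK, hI]
  exact fun x hx => by
    have h1 := Ideal.mem_map_of_mem (algebraMap C A) hx
    rw [hK] at h1
    exact h1

theorem formallyUnramified_coinv (hI : I * I = I) : Algebra.FormallyUnramified R (coinv (R := R) I) := by
  obtain ⟨-, -, hff, -⟩ := main (R := R) I
  let C := coinv (R := R) I
  let D := KaehlerDifferential.D R C
  let inl : A →ₐ[R] (TrivSqZeroExt A (A ⊗[C] Ω[C⁄R])) := (TrivSqZeroExt.inlAlgHom R A (A ⊗[C] Ω[C⁄R]))
  let h : C →ₐ[R] (TrivSqZeroExt A (A ⊗[C] Ω[C⁄R])) :=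
    { toFun := fun b => TrivSqZeroExt.inl (b : A) + TrivSqZeroExt.inr ((1 : A) ⊗ₜ[C] D b)
      map_one' := by ext <;> simp [D]
      map_mul' := fun x y => by
        ext
        · simp
        · simp only [TrivSqZeroExt.snd_add, TrivSqZeroExt.snd_inl, TrivSqZeroExt.snd_inr, zero_add,
            TrivSqZeroExt.snd_mul, TrivSqZeroExt.fst_add, TrivSqZeroExt.fst_inl, TrivSqZeroExt.fst_inr, add_zero,
            op_smul_eq_smul, Derivation.leibniz, TensorProduct.tmul_add, TensorProduct.tmul_smul, D]
          rfl
      map_zero' := by ext <;> simp [D]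
      map_add' := fun x y => by
        ext
        · simp
        · simp [D, TensorProduct.tmul_add]
      commutes' := fun r => by
        ext
        · simp [TrivSqZeroExt.algebraMap_eq_inl']
        · simp [TrivSqZeroExt.algebraMap_eq_inl', D] }
  let S := HopfAlgebra.antipodeAlgHom R A
  let h' : C →ₐ[R] (TrivSqZeroExt A (A ⊗[C] Ω[C⁄R])) :=
    (Algebra.TensorProduct.lift (inl.comp S) h fun _ _ => Commute.all _ _).comp (coactL (R := R) I)
  let L : A ⊗[R] C →ₐ[R] (TrivSqZeroExt A (A ⊗[C] Ω[C⁄R])) := Algebra.TensorProduct.lift inl h fun _ _ => Commute.all _ _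
  let Sj : A ⊗[R] C →ₐ[R] A ⊗[R] C := Algebra.TensorProduct.map S (AlgHom.id R C)
  let unsh : A ⊗[R] C →ₐ[R] A ⊗[R] C :=
    Algebra.TensorProduct.lift Algebra.TensorProduct.includeLeft (Sj.comp (coactL (R := R) I))
      fun _ _ => Commute.all _ _
  have hunsh : ∀ b : C, unsh (coactL (R := R) I b) = (1 : A) ⊗ₜ[R] b := by
    intro b
    apply lTensor_val_injective I
    let j := Algebra.TensorProduct.map (AlgHom.id R A) C.val
    have e1 : ∀ z : A ⊗[R] C, j (unsh z) = unshear A (j z) := by
      intro z
      induction z using TensorProduct.induction_on with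
      | zero => simp
      | add x y hx hy => simp only [map_add, hx, hy]
      | tmul a c =>
        have e2 : ∀ w : A ⊗[R] C, j (Sj w) = Algebra.TensorProduct.map S (AlgHom.id R A) (j w) := by
          intro w
          induction w using TensorProduct.induction_on with
          | zero => simp
          | add x y hx hy => simp only [map_add, hx, hy]
          | tmul x y => simp [j, Sj]
        have e3 : ∀ x : A, (toConv ((Algebra.TensorProduct.includeLeft : A →ₐ[R] A ⊗[R] A).comp S) *
            toConv (Algebra.TensorProduct.includeRight : A →ₐ[R] A ⊗[R] A)).ofConv x =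
            Algebra.TensorProduct.map S (AlgHom.id R A) (Coalgebra.comul (R := R) x) := by
          intro x
          show (toConv ((Algebra.TensorProduct.includeLeft : A →ₐ[R] A ⊗[R] A).comp S) *
            toConv (Algebra.TensorProduct.includeRight : A →ₐ[R] A ⊗[R] A)) x = _
          rw [AlgHom.convMul_apply]
          generalize Coalgebra.comul (R := R) x = t
          induction t using TensorProduct.induction_on with
          | zero => simp
          | add x y hx hy => simp only [map_add, hx, hy]
          | tmul x y => simp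
        simp only [unsh, unshear, Algebra.TensorProduct.lift_tmul, map_mul, AlgHom.comp_apply, e2, j,
          Algebra.TensorProduct.includeLeft_apply, Algebra.TensorProduct.map_tmul, AlgHom.id_apply, map_one]
        rw [show C.val c = (c : A) from rfl, map_coactL, e3]
    rw [e1]
    show unshear A (j _) = _
    rw [show j (coactL (R := R) I b) = Coalgebra.comul (R := R) (b : A) from map_coactL I b,
      show Coalgebra.comul (R := R) (b : A) = shear A ((1 : A) ⊗ₜ[R] (b : A)) by
        simp [shear, ← Algebra.TensorProduct.one_def]]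
    obtain ⟨z, hz⟩ := (shear_bijective (R := R) A).2 ((1 : A) ⊗ₜ[R] (b : A))
    exact (unshear_shear (R := R) A _).trans (by simp [Algebra.TensorProduct.map_tmul])
  have hfst : ∀ b : C, (h' b).fst = algebraMap R A (counitC (R := R) I b) := by
    intro b
    have e1 : ∀ z : A ⊗[R] C, (Algebra.TensorProduct.lift (inl.comp S) h (fun _ _ => Commute.all _ _) z).fst =
        LinearMap.mul' R A ((HopfAlgebra.antipode R).rTensor A
          (Algebra.TensorProduct.map (AlgHom.id R A) C.val z)) := by
      intro z
      induction z using TensorProduct.induction_on with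
      | zero => simp
      | add x y hx hy => simp only [map_add, TrivSqZeroExt.fst_add, hx, hy]
      | tmul x y => simp [inl, h, S]
    show (Algebra.TensorProduct.lift (inl.comp S) h (fun _ _ => Commute.all _ _) (coactL (R := R) I b)).fst = _
    rw [e1, map_coactL, HopfAlgebra.mul_antipode_rTensor_comul_apply]
    rfl
  have hker : ∀ b ∈ RingHom.ker (counitC (R := R) I), h' b = 0 := by
    intro b hb
    rw [← ker_counitC_sq I hI] at hb
    induction hb using Submodule.mul_induction_on' with
    | mem_mul_mem x hx y hy =>
      rw [map_mul]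
      have hx' : (h' x).fst = 0 := by rw [hfst, RingHom.mem_ker.1 hx, map_zero]
      have hy' : (h' y).fst = 0 := by rw [hfst, RingHom.mem_ker.1 hy, map_zero]
      ext
      · simp [hx']
      · simp [TrivSqZeroExt.snd_mul, hx', hy']
    | add x _ y _ hx hy => rw [map_add, hx, hy, add_zero]
  have hh' : ∀ b : C, h' b = algebraMap R (TrivSqZeroExt A (A ⊗[C] Ω[C⁄R])) (counitC (R := R) I b) := by
    intro b
    have := hker (b - algebraMap R C (counitC (R := R) I b)) (by
      rw [RingHom.mem_ker, map_sub, AlgHom.commutes]; simp)
    rwa [map_sub, AlgHom.commutes, sub_eq_zero] at this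
  have hD : ∀ b : C, (1 : A) ⊗ₜ[C] D b = (0 : (A ⊗[C] Ω[C⁄R])) := by
    intro b
    have e1 : ∀ z : A ⊗[R] C, L (unsh z) = inl (TensorProduct.rid R A ((Coalgebra.counit (R := R)).lTensor A
        (Algebra.TensorProduct.map (AlgHom.id R A) C.val z))) := by
      intro z
      induction z using TensorProduct.induction_on with
      | zero => simp
      | add x y hx hy => simp only [map_add, hx, hy]
      | tmul a c =>
        have e2 : L (Sj (coactL (R := R) I c)) = h' c := by
          suffices ∀ w, L (Sj w) = Algebra.TensorProduct.lift (inl.comp S) h (fun _ _ => Commute.all _ _) w from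
            this _
          intro w
          induction w using TensorProduct.induction_on with
          | zero => simp
          | add x y hx hy => simp only [map_add, hx, hy]
          | tmul x y => simp [L, Sj]
        have e3 : unsh (a ⊗ₜ[R] c) = (a ⊗ₜ[R] (1 : C)) * Sj (coactL (R := R) I c) := by simp [unsh]
        rw [e3, map_mul, e2, hh']
        simp [L, counitC, Algebra.smul_def, mul_comm]
    have := e1 (coactL (R := R) I b)
    rw [hunsh, map_coactL, Coalgebra.lTensor_counit_comul] at this
    have h3 := congrArg TrivSqZeroExt.snd this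
    simpa [L, h, inl] using h3
  have hN : Subsingleton (A ⊗[C] Ω[C⁄R]) := by
    refine subsingleton_of_forall_eq 0 fun z => ?_
    induction z using TensorProduct.induction_on with
    | zero => rfl
    | add x y hx hy => rw [hx, hy, add_zero]
    | tmul a w =>
      have hw : w ∈ Submodule.span C (Set.range D) := by
        rw [KaehlerDifferential.span_range_derivation]; trivial
      rw [show a ⊗ₜ[C] w = a • ((1 : A) ⊗ₜ[C] w) by simp [TensorProduct.smul_tmul']]
      refine smul_eq_zero_of_right a ?_
      induction hw using Submodule.span_induction with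
      | mem x hx => obtain ⟨b, rfl⟩ := hx; exact hD b
      | zero => simp
      | add x y _ _ hx hy => rw [TensorProduct.tmul_add, hx, hy, add_zero]
      | smul c x _ hx => rw [TensorProduct.tmul_smul, hx]; exact smul_zero _
  exact ⟨Module.FaithfullyFlat.lTensor_reflects_triviality C A _⟩

theorem eq_of_local [IsLocalRing (A ⧸ I)] [Nontrivial R] (hI : I * I = I) {b : A} (hb : b ∈ coinv (R := R) I) :
    Algebra.TensorProduct.map (Ideal.Quotient.mkₐ R I) (AlgHom.id R A) (Coalgebra.comul (R := R) b) =
      (1 : A ⧸ I) ⊗ₜ[R] b := by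
  have := formallyUnramified_coinv (R := R) I hI
  obtain ⟨hfin, -⟩ := finite_projective_coinv (R := R) I
  let C := coinv (R := R) I
  let f₁ : C →ₐ[R] (A ⧸ I) ⊗[R] A :=
    (Algebra.TensorProduct.map (Ideal.Quotient.mkₐ R I) (AlgHom.id R A)).comp
      ((Bialgebra.comulAlgHom R A).comp C.val)
  let f₂ : C →ₐ[R] (A ⧸ I) ⊗[R] A := Algebra.TensorProduct.includeRight.comp C.val
  let d := Algebra.FormallyUnramified.elem R C
  let m : C ⊗[R] C →ₐ[R] (A ⧸ I) ⊗[R] A := Algebra.TensorProduct.lift f₁ f₂ fun _ _ => Commute.all _ _
  let ε : A ⧸ I →ₐ[R] R := Bialgebra.counitAlgHom R (A ⧸ I)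
  let q : (A ⧸ I) ⊗[R] A →ₐ[R] A :=
    (Algebra.TensorProduct.lid R A).toAlgHom.comp (Algebra.TensorProduct.map ε (AlgHom.id R A))
  have hq₁ : ∀ c : C, q (f₁ c) = (c : A) := by
    intro c
    have : ∀ t : A ⊗[R] A, q (Algebra.TensorProduct.map (Ideal.Quotient.mkₐ R I) (AlgHom.id R A) t) =
        TensorProduct.lid R A ((Coalgebra.counit (R := R)).rTensor A t) := by
      intro t
      induction t using TensorProduct.induction_on with
      | zero => simp
      | add x y hx hy => simp only [map_add, hx, hy]
      | tmul x y => simp [q, ε]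
    refine (this _).trans ?_
    show TensorProduct.lid R A ((Coalgebra.counit (R := R)).rTensor A (Coalgebra.comul (R := R) (c : A))) = _
    rw [Coalgebra.rTensor_counit_comul, TensorProduct.lid_tmul, one_smul]
  have hq₂ : ∀ c : C, q (f₂ c) = (c : A) := fun c => by simp [q, f₂]
  have hd : IsIdempotentElem d := by
    have e : ∀ z : C ⊗[R] C, z * d = (Algebra.TensorProduct.lmul' R z ⊗ₜ[R] (1 : C)) * d := by
      intro z
      induction z using TensorProduct.induction_on with
      | zero => simp
      | add x y hx hy => simp only [map_add, TensorProduct.add_tmul, add_mul, hx, hy]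
      | tmul x y =>
        rw [show x ⊗ₜ[R] y = (x ⊗ₜ[R] (1 : C)) * ((1 : C) ⊗ₜ[R] y) by simp, mul_assoc,
          Algebra.FormallyUnramified.one_tmul_mul_elem, ← mul_assoc]
        simp [d]
    show d * d = d
    rw [e, Algebra.FormallyUnramified.lmul_elem, ← Algebra.TensorProduct.one_def, one_mul]
  have hqd : q (m d) = 1 := by
    have e : ∀ z : C ⊗[R] C, q (m z) = (Algebra.TensorProduct.lmul' R z : C) := by
      intro z
      induction z using TensorProduct.induction_on with
      | zero => simp
      | add x y hx hy => simp only [map_add, hx, hy]; rfl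
      | tmul x y => simp [m, hq₁, hq₂]
    rw [e, Algebra.FormallyUnramified.lmul_elem]
    rfl
  have hone : m d = 1 := idem_tensor_eq_one ε (hd.map m) hqd
  have h1 := congrArg m (Algebra.FormallyUnramified.one_tmul_mul_elem (R := R) (⟨b, hb⟩ : C))
  rw [map_mul, map_mul] at h1
  erw [hone] at h1
  simpa [m, f₁, f₂, ← Algebra.TensorProduct.one_def] using h1.symm

theorem isHopfSubalgebra [IsLocalRing (A ⧸ I)] [Nontrivial R] (hI : I * I = I) :
    (∀ b ∈ coinv (R := R) I, Coalgebra.comul (R := R) b ∈
      LinearMap.range (TensorProduct.map (coinv (R := R) I).val.toLinearMap (coinv (R := R) I).val.toLinearMap)) ∧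
    ∀ b ∈ coinv (R := R) I, HopfAlgebra.antipode R b ∈ coinv (R := R) I := by
  let C := coinv (R := R) I
  have hS : ∀ b ∈ C, HopfAlgebra.antipode R b ∈ C := by
    intro b hb
    show Algebra.TensorProduct.map (AlgHom.id R A) (Ideal.Quotient.mkₐ R I)
      (Coalgebra.comul (R := R) (HopfAlgebra.antipode R b)) = _
    rw [Groth.Agent.Comod.comul_antipode]
    let S₀ := HopfAlgebra.antipode R (A := A)
    have e : ∀ t : A ⊗[R] A, Algebra.TensorProduct.map (AlgHom.id R A) (Ideal.Quotient.mkₐ R I)
        (TensorProduct.comm R A A (TensorProduct.map S₀ S₀ t)) =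
      TensorProduct.comm R (A ⧸ I) A (TensorProduct.map (HopfAlgebra.antipode R) S₀
        (Algebra.TensorProduct.map (Ideal.Quotient.mkₐ R I) (AlgHom.id R A) t)) := by
      intro t
      induction t using TensorProduct.induction_on with
      | zero => simp
      | add x y hx hy => simp only [map_add, hx, hy]
      | tmul x y => simp [S₀]
    rw [e, eq_of_local I hI hb]
    simp [S₀]
  refine ⟨fun b hb => ?_, hS⟩
  obtain ⟨hfin, hproj, hff, -⟩ := main (R := R) I
  obtain ⟨r, hr⟩ := exists_retraction_of_faithfullyFlat C A
  let p : A →ₗ[R] A := C.val.toLinearMap ∘ₗ r.restrictScalars R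
  have hp : ∀ c ∈ C, p c = c := fun c hc => by
    show ((r c : C) : A) = c
    rw [show c = (⟨c, hc⟩ : C) • (1 : A) from (mul_one c).symm, map_smul, hr]
    rfl
  obtain ⟨w, hw⟩ := comul_mem_lTensor I hb
  have h2 : (Coalgebra.comul (R := R) b) ∈ LinearMap.range ((C.val.toLinearMap).rTensor A) := by
    obtain ⟨z, hz⟩ := comul_mem_lTensor I (hS b hb)
    refine ⟨TensorProduct.comm R A C (TensorProduct.map (HopfAlgebra.antipode R)
      (((HopfAlgebra.antipode R).comp C.val.toLinearMap).codRestrict C.toSubmodule fun c => hS c c.2) z), ?_⟩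
    have hSS : ∀ a : A, HopfAlgebra.antipode R (HopfAlgebra.antipode R a) = a := fun a => by
      have h1 := (conv_antipode (HopfAlgebra.antipodeAlgHom R A)).1
      have h2 := (conv_antipode (AlgHom.id R A)).1
      rw [AlgHom.id_comp] at h2
      have h3 : toConv (AlgHom.id R A) =
          toConv ((HopfAlgebra.antipodeAlgHom R A).comp (HopfAlgebra.antipodeAlgHom R A)) := by
        rw [← mul_one (toConv (AlgHom.id R A)), ← h1, ← mul_assoc, h2, one_mul]
      exact (AlgHom.congr_fun (WithConv.toConv_injective h3) a).symm
    have e : ∀ z : A ⊗[R] C, (C.val.toLinearMap).rTensor A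
        (TensorProduct.comm R A C (TensorProduct.map (HopfAlgebra.antipode R)
          (((HopfAlgebra.antipode R).comp C.val.toLinearMap).codRestrict C.toSubmodule fun c => hS c c.2) z)) =
      TensorProduct.comm R A A (TensorProduct.map (HopfAlgebra.antipode R) (HopfAlgebra.antipode R)
        (C.val.toLinearMap.lTensor A z)) := by
      intro z
      induction z using TensorProduct.induction_on with
      | zero => simp
      | add x y hx hy => simp only [map_add, hx, hy]
      | tmul x y => simp
    rw [e, hz, ← Groth.Agent.Comod.comul_antipode, hSS]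
  obtain ⟨w', hw'⟩ := h2
  refine ⟨TensorProduct.map (r.restrictScalars R) LinearMap.id w, ?_⟩
  have e1 : ∀ z : A ⊗[R] C, TensorProduct.map C.val.toLinearMap C.val.toLinearMap
      (TensorProduct.map (r.restrictScalars R) LinearMap.id z) = p.rTensor A (C.val.toLinearMap.lTensor A z) := by
    intro z
    induction z using TensorProduct.induction_on with
    | zero => simp
    | add x y hx hy => simp only [map_add, hx, hy]
    | tmul x y => simp [p]
  rw [e1, hw, ← hw']
  clear hw'
  induction w' using TensorProduct.induction_on with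
  | zero => simp
  | add x y hx hy => simp only [map_add, hx, hy]
  | tmul x y => simp [hp x x.2]

theorem etale_coinv [IsNoetherianRing R] (hI : I * I = I) : Algebra.Etale R (coinv (R := R) I) := by
  have := formallyUnramified_coinv (R := R) I hI
  obtain ⟨hfin, hproj⟩ := finite_projective_coinv (R := R) I
  have : Algebra.FinitePresentation R (coinv (R := R) I) :=
    Algebra.FinitePresentation.of_finiteType.1 inferInstance
  exact Algebra.Etale.of_formallyUnramified_of_flat

end Groth.Agent.CartKit.Quot
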