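import Groth.Agent.CartKit.Quot
import Mathlib.RingTheory.Spectrum.Prime.FreeLocus
import Mathlib.RingTheory.LocalRing.Module
import Mathlib.RingTheory.Artinian.Ring

/-!
# Ranks for the quotient by a finite subgroup
-/

open TensorProduct

universe u v w

noncomputable section

namespace Groth.Agent.CartKit.Quot

theorem free_of_rank {S : Type u} [CommRing S] [Nontrivial S] [Finite (MaximalSpectrum S)] {M : Type v}
    [AddCommGroup M] [Module S M] [Module.Finite S M] [Module.Flat S M] (n : ℕ)
    (h : ∀ P : PrimeSpectrum S, Module.rankAtStalk M P = n) :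
    Module.Free S M ∧ Module.finrank S M = n := by
  have hfree : Module.Free S M := by
    refine Module.free_of_flat_of_finrank_eq S M n fun P => ?_
    let : Field (S ⧸ P.1) := Ideal.Quotient.field _
    have h1 := Module.rankAtStalk_baseChange (M := M) (R := S) (S := S ⧸ P.1) ⟨⊥, Ideal.isPrime_bot⟩
    rwa [h, Module.rankAtStalk_eq_finrank_of_free] at h1
  refine ⟨hfree, ?_⟩
  obtain ⟨m, hm⟩ := Ideal.exists_maximal S
  have h1 := h ⟨m, hm.isPrime⟩
  rwa [Module.rankAtStalk_eq_finrank_of_free] at h1

/-- Ranks multiply in a tower. -/
theorem rankAtStalk_tower {R : Type u} [CommRing R] {C : Type v} [CommRing C] [Algebra R C]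
    [Module.Finite R C] [Module.Flat R C] {A : Type w} [CommRing A] [Algebra R A] [Algebra C A]
    [IsScalarTower R C A] [Module.Finite C A] [Module.Flat C A] (n : ℕ) (q : PrimeSpectrum R)
    (h : ∀ P : PrimeSpectrum C, P.comap (algebraMap R C) = q → Module.rankAtStalk A P = n) :
    Module.rankAtStalk A q = n * Module.rankAtStalk C q := by
  have : Module.Finite R A := Module.Finite.trans C A
  have : Module.Flat R A := Module.Flat.trans R C A
  rw [Module.rankAtStalk_eq, Module.rankAtStalk_eq]
  let K := q.asIdeal.ResidueField
  let S := C ⊗[R] K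
  let : Algebra K S := Algebra.TensorProduct.rightAlgebra
  let e : K ⊗[R] C ≃ₗ[K] S :=
    { (TensorProduct.comm R K C).toAddEquiv with
      map_smul' := fun a x => by
        show TensorProduct.comm R K C (a • x) = a • TensorProduct.comm R K C x
        induction x using TensorProduct.induction_on with
        | zero => simp
        | add x y hx hy => simp only [smul_add, map_add, hx, hy]
        | tmul k c =>
          rw [TensorProduct.smul_tmul', Algebra.smul_def a (TensorProduct.comm R K C (k ⊗ₜ c))]
          simp [S, RingHom.algebraMap_toAlgebra, Algebra.TensorProduct.tmul_mul_tmul] }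
  have : Module.Finite K S := Module.Finite.equiv e
  let M := S ⊗[C] A
  let f : M ≃ₗ[C] A ⊗[R] K :=
    (TensorProduct.comm C S A).trans (AlgebraTensorModule.cancelBaseChange R C C A K)
  have hf : ∀ (c : C) (k : K) (a : A), f ((c ⊗ₜ[R] k) ⊗ₜ[C] a) = (c • a) ⊗ₜ[R] k := fun c k a => by
    show (AlgebraTensorModule.cancelBaseChange R C C A K) (a ⊗ₜ[C] (c ⊗ₜ[R] k)) = _
    rw [AlgebraTensorModule.cancelBaseChange_tmul]
  let g : M ≃ₗ[K] K ⊗[R] A :=
    { (f.toAddEquiv.trans (TensorProduct.comm R A K).toAddEquiv) with
      map_smul' := fun a x => by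
        show TensorProduct.comm R A K (f (a • x)) = a • TensorProduct.comm R A K (f x)
        induction x using TensorProduct.induction_on with
        | zero => simp
        | add x y hx hy => simp only [smul_add, map_add, hx, hy]
        | tmul s x =>
          induction s using TensorProduct.induction_on with
          | zero => simp
          | add s t hs ht => simp only [TensorProduct.add_tmul, smul_add, map_add, hs, ht]
          | tmul c k =>
            rw [TensorProduct.smul_tmul', show a • (c ⊗ₜ[R] k : S) = c ⊗ₜ[R] (a * k) by
              rw [Algebra.smul_def]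
              simp [S, RingHom.algebraMap_toAlgebra, Algebra.TensorProduct.tmul_mul_tmul], hf, hf]
            simp [TensorProduct.smul_tmul'] }
  rw [show Module.finrank K (q.asIdeal.Fiber A) = Module.finrank K M from g.finrank_eq.symm,
    show Module.finrank K (q.asIdeal.Fiber C) = Module.finrank K S from e.finrank_eq]
  rcases subsingleton_or_nontrivial S with hS | hS
  · have : Subsingleton M := Module.subsingleton S M
    simp [Module.finrank_zero_of_subsingleton]
  have : IsArtinianRing S := IsArtinianRing.of_finite K S
  obtain ⟨hfree, hrk⟩ := free_of_rank (S := S) (M := M) n fun P => by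
    rw [Module.rankAtStalk_baseChange]
    refine h _ (PrimeSpectrum.ext ?_)
    show (P.asIdeal.comap (algebraMap C S)).comap (algebraMap R C) = q.asIdeal
    have he : (algebraMap C S).comp (algebraMap R C) = (algebraMap K S).comp (algebraMap R K) := by
      refine RingHom.ext fun r => ?_
      simp [S, RingHom.algebraMap_toAlgebra, Algebra.algebraMap_eq_smul_one, TensorProduct.smul_tmul']
    rw [Ideal.comap_comap, he, ← Ideal.comap_comap,
      ((Ideal.eq_bot_or_top (P.asIdeal.comap (algebraMap K S))).resolve_right
        (Ideal.IsPrime.ne_top inferInstance)), ← RingHom.ker_eq_comap_bot]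
    exact Ideal.ker_algebraMap_residueField q.asIdeal
  have : IsScalarTower K S M := inferInstance
  rw [← hrk, mul_comm, Module.finrank_mul_finrank]

variable {R : Type u} [CommRing R] {A : Type v} [CommRing A] [HopfAlgebra R A] (I : Ideal A) [I.IsHopfIdeal R]
variable [Module.Finite R (A ⧸ I)] [Module.Projective R (A ⧸ I)]

/-- The rank over the coinvariants is the order of the subgroup. -/
theorem rankAtStalk_coinv (P : PrimeSpectrum (coinv (R := R) I)) :
    Module.rankAtStalk A P = Module.rankAtStalk (A ⧸ I) (P.comap (algebraMap R (coinv (R := R) I))) := by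
  obtain ⟨hfin, hproj, hff, φ, -⟩ := main (R := R) I
  obtain ⟨P', rfl⟩ := PrimeSpectrum.comap_surjective_of_faithfullyFlat (A := coinv (R := R) I) (B := A) P
  rw [← Module.rankAtStalk_baseChange, Module.rankAtStalk_eq_of_equiv φ, Module.rankAtStalk_baseChange]
  rfl

variable [Module.Finite R A] [Module.Projective R A]

theorem finite_projective_coinv :
    Module.Finite R (coinv (R := R) I) ∧ Module.Projective R (coinv (R := R) I) := by
  obtain ⟨hfin, hproj, hff, -⟩ := main (R := R) I
  obtain ⟨r, hr⟩ := exists_retraction_of_faithfullyFlat (coinv (R := R) I) A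
  let r' : A →ₗ[R] coinv (R := R) I := r.restrictScalars R
  have hsplit : r' ∘ₗ (coinv (R := R) I).val.toLinearMap = LinearMap.id := by
    refine LinearMap.ext fun c => ?_
    show r (c : A) = c
    rw [show (c : A) = c • (1 : A) from (mul_one (c : A)).symm, map_smul, hr]
    exact mul_one c
  exact ⟨Module.Finite.of_surjective r' fun c => ⟨c, LinearMap.congr_fun hsplit c⟩,
    Module.Projective.of_split _ r' hsplit⟩

/-- The order of the group is the order of the subgroup times the index. -/
theorem rankAtStalk_mul (q : PrimeSpectrum R) :
    Module.rankAtStalk A q = Module.rankAtStalk (A ⧸ I) q * Module.rankAtStalk (coinv (R := R) I) q := by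
  obtain ⟨hfin, hproj, hff, -⟩ := main (R := R) I
  obtain ⟨hC, hCp⟩ := finite_projective_coinv (R := R) I
  exact rankAtStalk_tower _ q fun P hP => by rw [rankAtStalk_coinv, hP]

end Groth.Agent.CartKit.Quot
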